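import Mathlib.LinearAlgebra.Trace
import Mathlib.LinearAlgebra.Projection
import Mathlib.LinearAlgebra.FiniteDimensional.Basic
import Mathlib.LinearAlgebra.Dimension.Finite
import Mathlib.Tactic.NoncommRing
import Mathlib.Tactic.Ring

/-!
# Traces of endomorphisms of finite rank, and of commutators of almost commuting endomorphisms
-/

set_option autoImplicit false

universe u v v₁ v₂

namespace Groth.Agent.Residue24

open LinearMap

variable {k : Type u} [Field k] {V : Type v} [AddCommGroup V] [Module k V]
  {W : Type v₁} [AddCommGroup W] [Module k W] {U : Type v₂} [AddCommGroup U] [Module k U]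

/-- A linear map of finite rank. -/
def FinRank (f : V →ₗ[k] W) : Prop := FiniteDimensional k (range f)

theorem FinRank.of_le {f : V →ₗ[k] W} {S : Submodule k W} [FiniteDimensional k S] (h : range f ≤ S) :
    FinRank f :=
  Submodule.finiteDimensional_of_le h

theorem finRank_of_finiteDimensional [FiniteDimensional k W] (f : V →ₗ[k] W) : FinRank f := by
  unfold FinRank; infer_instance

theorem finRank_of_finiteDimensional_dom [FiniteDimensional k V] (f : V →ₗ[k] W) : FinRank f :=
  Module.Finite.range f

theorem finRank_zero : FinRank (0 : V →ₗ[k] W) := by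
  unfold FinRank; rw [range_zero]; infer_instance

theorem FinRank.neg {f : V →ₗ[k] W} (hf : FinRank f) : FinRank (-f) := by
  haveI : FiniteDimensional k (range f) := hf
  refine FinRank.of_le (S := range f) ?_
  rintro _ ⟨x, rfl⟩
  exact ⟨-x, by simp⟩

theorem FinRank.add {f g : V →ₗ[k] W} (hf : FinRank f) (hg : FinRank g) : FinRank (f + g) := by
  haveI : FiniteDimensional k (range f) := hf
  haveI : FiniteDimensional k (range g) := hg
  refine FinRank.of_le (S := range f ⊔ range g) ?_
  rintro _ ⟨x, rfl⟩
  exact Submodule.add_mem_sup ⟨x, rfl⟩ ⟨x, rfl⟩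

theorem FinRank.sub {f g : V →ₗ[k] W} (hf : FinRank f) (hg : FinRank g) : FinRank (f - g) := by
  rw [sub_eq_add_neg]; exact hf.add hg.neg

theorem finRank_sum {ι : Type*} (s : Finset ι) (f : ι → (V →ₗ[k] W)) (h : ∀ i ∈ s, FinRank (f i)) :
    FinRank (∑ i ∈ s, f i) :=
  Finset.sum_induction f FinRank (fun _ _ => FinRank.add) finRank_zero h

theorem FinRank.comp_left {f : V →ₗ[k] W} (hf : FinRank f) (g : W →ₗ[k] U) : FinRank (g ∘ₗ f) := by
  haveI : FiniteDimensional k (range f) := hf
  exact FinRank.of_le (S := (range f).map g) (range_comp f g).le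

theorem FinRank.comp_right {g : W →ₗ[k] U} (hg : FinRank g) (f : V →ₗ[k] W) : FinRank (g ∘ₗ f) := by
  haveI : FiniteDimensional k (range g) := hg
  exact FinRank.of_le (range_comp_le_range f g)

/-- The trace of an endomorphism of finite rank. -/
noncomputable def ftr (f : Module.End k V) : k := trace k (range f) (f.restrict (p := range f) (q := range f)
  fun x _ => mem_range_self f x)

theorem ftr_eq_trace (f : Module.End k V) (S : Submodule k V) [FiniteDimensional k S] (h : range f ≤ S) :
    ftr f = trace k S (f.restrict (p := S) (q := S) fun x _ => h (mem_range_self f x)) := by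
  haveI : FiniteDimensional k (range f) := Submodule.finiteDimensional_of_le h
  let r : S →ₗ[k] range f := (f.comp S.subtype).codRestrict (range f) fun x => mem_range_self f _
  have e : f.restrict (p := S) (q := S) (fun x _ => h (mem_range_self f x)) = Submodule.inclusion h ∘ₗ r :=
    LinearMap.ext fun x => Subtype.ext rfl
  rw [e, trace_comp_comm', ftr]
  exact congrArg (trace k (range f)) (LinearMap.ext fun x => Subtype.ext (by rfl))

theorem ftr_eq_of_finiteDimensional [FiniteDimensional k V] (f : Module.End k V) : ftr f = trace k V f := by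
  rw [ftr_eq_trace f ⊤ le_top, ← trace_conj' _ (Submodule.topEquiv (R := k) (M := V))]
  exact congrArg _ (LinearMap.ext fun x => rfl)

theorem ftr_zero : ftr (0 : Module.End k V) = 0 := by
  rw [ftr, show (0 : Module.End k V).restrict (p := range (0 : Module.End k V))
    (q := range (0 : Module.End k V)) (fun x _ => mem_range_self _ x) = 0 from
      LinearMap.ext fun x => Subtype.ext rfl, map_zero]

theorem ftr_add {f g : Module.End k V} (hf : FinRank f) (hg : FinRank g) : ftr (f + g) = ftr f + ftr g := by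
  haveI : FiniteDimensional k (range f) := hf
  haveI : FiniteDimensional k (range g) := hg
  have h : range (f + g) ≤ range f ⊔ range g := by
    rintro _ ⟨x, rfl⟩
    exact Submodule.add_mem_sup ⟨x, rfl⟩ ⟨x, rfl⟩
  rw [ftr_eq_trace (f + g) _ h, ftr_eq_trace f (range f ⊔ range g) le_sup_left,
    ftr_eq_trace g (range f ⊔ range g) le_sup_right, ← map_add]
  exact congrArg _ (LinearMap.ext fun x => Subtype.ext rfl)

theorem ftr_neg {f : Module.End k V} (hf : FinRank f) : ftr (-f) = -ftr f := by
  have h := ftr_add hf hf.neg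
  rw [add_neg_cancel, ftr_zero] at h
  exact eq_neg_of_add_eq_zero_right h.symm

theorem ftr_sub {f g : Module.End k V} (hf : FinRank f) (hg : FinRank g) : ftr (f - g) = ftr f - ftr g := by
  rw [sub_eq_add_neg, sub_eq_add_neg, ftr_add hf hg.neg, ftr_neg hg]

theorem ftr_sum {ι : Type*} (s : Finset ι) (f : ι → Module.End k V) (h : ∀ i ∈ s, FinRank (f i)) :
    ftr (∑ i ∈ s, f i) = ∑ i ∈ s, ftr (f i) := by
  classical
  induction s using Finset.induction_on with
  | empty => simp [ftr_zero]
  | insert i s hi ih =>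
    rw [Finset.sum_insert hi, Finset.sum_insert hi,
      ftr_add (h i (Finset.mem_insert_self _ _)) (finRank_sum s f fun j hj => h j (Finset.mem_insert_of_mem hj)),
      ih fun j hj => h j (Finset.mem_insert_of_mem hj)]

/-- Cyclicity. -/
theorem ftr_comp_comm (X : V →ₗ[k] W) (Y : W →ₗ[k] V) (hX : FinRank X) : ftr (X ∘ₗ Y) = ftr (Y ∘ₗ X) := by
  haveI : FiniteDimensional k (range X) := hX
  haveI : FiniteDimensional k ((range X).map Y) := Module.Finite.map _ _
  rw [ftr_eq_trace (X ∘ₗ Y) (range X) (range_comp_le_range Y X),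
    ftr_eq_trace (Y ∘ₗ X) ((range X).map Y) (range_comp X Y).le]
  let X' : ↥((range X).map Y) →ₗ[k] range X := (X.comp (Submodule.subtype _)).codRestrict _ fun x => mem_range_self X _
  let Y' : range X →ₗ[k] ↥((range X).map Y) := Y.restrict (p := range X) fun x hx => Submodule.mem_map_of_mem hx
  refine Eq.trans ?_ ((trace_comp_comm' Y' X').trans ?_)
  · exact congrArg _ (LinearMap.ext fun x => Subtype.ext rfl)
  · exact congrArg _ (LinearMap.ext fun x => Subtype.ext rfl)

/-- Cyclicity. -/
theorem ftr_comp_comm' (X : V →ₗ[k] W) (Y : W →ₗ[k] V) (hY : FinRank Y) : ftr (X ∘ₗ Y) = ftr (Y ∘ₗ X) :=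
  (ftr_comp_comm Y X hY).symm

/-- The commutator. -/
def comm (a b : Module.End k V) : Module.End k V := a * b - b * a

theorem ftr_comm_eq_zero {a b : Module.End k V} (ha : FinRank a) :
    FinRank (comm a b) ∧ ftr (comm a b) = 0 := by
  have h1 : FinRank (a * b) := ha.comp_right b
  have h2 : FinRank (b * a) := ha.comp_left b
  refine ⟨h1.sub h2, ?_⟩
  rw [comm, ftr_sub h1 h2]
  exact sub_eq_zero.2 (ftr_comp_comm a b ha)

theorem comm_swap (a b : Module.End k V) : comm a b = -comm b a := by
  simp [comm]

/-- The trace of a commutator only depends on the endomorphisms up to finite rank. -/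
theorem ftr_comm_congr {a b a' b' : Module.End k V} (h : FinRank (comm a b)) (ha : FinRank (a' - a))
    (hb : FinRank (b' - b)) : FinRank (comm a' b') ∧ ftr (comm a' b') = ftr (comm a b) := by
  obtain ⟨h1, h1'⟩ := ftr_comm_eq_zero (b := b') ha
  obtain ⟨h2, h2'⟩ := ftr_comm_eq_zero (b := a) hb
  have e : comm a' b' = comm (a' - a) b' + (comm a b + -comm (b' - b) a) := by
    simp only [comm]; noncomm_ring
  refine ⟨e ▸ h1.add (h.add h2.neg), ?_⟩
  rw [e, ftr_add h1 (h.add h2.neg), ftr_add h h2.neg, ftr_neg h2, h1', h2', neg_zero, add_zero, zero_add]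

/-- The trace of a commutator is invariant under maps which are invertible up to finite rank. -/
theorem ftr_comm_transfer (s : W →ₗ[k] V) (t : V →ₗ[k] W) (hts : FinRank (t ∘ₗ s - LinearMap.id))
    (hst : FinRank (s ∘ₗ t - LinearMap.id)) {a b : Module.End k W} {a' b' : Module.End k V}
    (h : FinRank (comm a b)) (ha : FinRank (s ∘ₗ a - a' ∘ₗ s)) (hb : FinRank (s ∘ₗ b - b' ∘ₗ s)) :
    FinRank (comm a' b') ∧ ftr (comm a' b') = ftr (comm a b) := by
  let e : Module.End k W := t ∘ₗ s - LinearMap.id
  have he : FinRank e := hts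
  let C : Module.End k W := comm a b + (a * e * b - b * e * a)
  have haeb : FinRank (a * e * b) := (he.comp_left a).comp_right b
  have hbea : FinRank (b * e * a) := (he.comp_left b).comp_right a
  have hC : FinRank C := h.add (haeb.sub hbea)
  have hts' : t ∘ₗ s = LinearMap.id + e := by simp [e]
  have hconj : comm (s ∘ₗ a ∘ₗ t) (s ∘ₗ b ∘ₗ t) = s ∘ₗ (C ∘ₗ t) := by
    ext x
    have h1 : ∀ y, t (s y) = y + e y := fun y => LinearMap.congr_fun hts' y
    simp only [comm, C, Module.End.mul_apply, LinearMap.sub_apply, LinearMap.add_apply, LinearMap.comp_apply, h1,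
      map_add, map_sub]
    abel
  have htr : ftr (comm (s ∘ₗ a ∘ₗ t) (s ∘ₗ b ∘ₗ t)) = ftr (comm a b) := by
    rw [hconj, ftr_comp_comm' s (C ∘ₗ t) (hC.comp_right t),
      show (C ∘ₗ t) ∘ₗ s = C + C * e by
        rw [LinearMap.comp_assoc, hts', LinearMap.comp_add, LinearMap.comp_id]; rfl,
      ftr_add (f := C) (g := C * e) hC (he.comp_left C)]
    have hCe : C * e = comm a b * e + (a * e * b * e - b * e * a * e) := by
      simp only [C, add_mul, sub_mul]
    have hae : FinRank (a * e) := he.comp_left a
    have hbe : FinRank (b * e) := he.comp_left b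
    have z1 : ftr (a * e * b * e) - ftr (b * e * a * e) = 0 := by
      rw [sub_eq_zero, mul_assoc (a * e) b e, mul_assoc (b * e) a e]
      exact ftr_comp_comm (a * e) (b * e) hae
    have z2 : ftr (a * e * b) - ftr (b * e * a) = -ftr (e * comm a b) := by
      have u1 : ftr (a * e * b) = ftr (e * (b * a)) := by
        rw [mul_assoc, ← mul_assoc e b a]
        exact ftr_comp_comm' a (e * b) (he.comp_right b)
      have u2 : ftr (b * e * a) = ftr (e * (a * b)) := by
        rw [mul_assoc, ← mul_assoc e a b]
        exact ftr_comp_comm' b (e * a) (he.comp_right a)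
      have w1 : FinRank (e * (b * a)) := he.comp_right _
      have w2 : FinRank (e * (a * b)) := he.comp_right _
      have w3 : FinRank (e * comm a b) := he.comp_right _
      rw [u1, u2, ← ftr_sub w1 w2, ← ftr_neg w3]
      refine congrArg ftr ?_
      show e * (b * a) - e * (a * b) = -(e * comm a b)
      rw [comm]; noncomm_ring
    have z3 : ftr (comm a b * e) = ftr (e * comm a b) := ftr_comp_comm' (comm a b) e he
    have f1 : FinRank (a * e * b * e) := haeb.comp_right e
    have f2 : FinRank (b * e * a * e) := hbea.comp_right e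
    have f3 : FinRank (comm a b * e) := he.comp_left _
    rw [ftr_add h (haeb.sub hbea), ftr_sub haeb hbea, hCe, ftr_add f3 (f1.sub f2),
      ftr_sub f1 f2, z1, z2, z3]
    ring
  have hfc : FinRank (comm (s ∘ₗ a ∘ₗ t) (s ∘ₗ b ∘ₗ t)) := by
    rw [hconj]; exact (hC.comp_right t).comp_left s
  have d : ∀ (f : Module.End k W) (f' : Module.End k V), FinRank (s ∘ₗ f - f' ∘ₗ s) →
      FinRank (f' - s ∘ₗ f ∘ₗ t) := fun f f' hf => by
    have e' : f' - s ∘ₗ f ∘ₗ t = -((s ∘ₗ f - f' ∘ₗ s) ∘ₗ t + f' ∘ₗ (s ∘ₗ t - LinearMap.id)) := by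
      ext x; simp
    rw [e']
    exact ((hf.comp_right t).add (hst.comp_left f')).neg
  obtain ⟨r1, r2⟩ := ftr_comm_congr hfc (d a a' ha) (d b b' hb)
  exact ⟨r1, r2.trans htr⟩

/-- A map with finite-dimensional kernel and cokernel is invertible up to finite rank. -/
theorem exists_pseudoInverse (s : W →ₗ[k] V) [FiniteDimensional k (ker s)] [FiniteDimensional k (V ⧸ range s)] :
    ∃ t : V →ₗ[k] W, FinRank (t ∘ₗ s - LinearMap.id) ∧ FinRank (s ∘ₗ t - LinearMap.id) := by
  obtain ⟨σ, hσ⟩ := s.rangeRestrict.exists_rightInverse_of_surjective s.range_rangeRestrict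
  obtain ⟨E, hE⟩ := Submodule.exists_isCompl (range s)
  let pr : V →ₗ[k] range s := Submodule.linearProjOfIsCompl (range s) E hE
  have hpr : ∀ x : range s, pr x = x := fun x => Submodule.linearProjOfIsCompl_apply_left hE x
  have hσ' : ∀ x : range s, s (σ x) = x := fun x => congrArg Subtype.val (LinearMap.congr_fun hσ x)
  refine ⟨σ ∘ₗ pr, FinRank.of_le (S := ker s) ?_, ?_⟩
  · rintro _ ⟨x, rfl⟩
    show s (σ (pr (s x)) - x) = 0
    rw [map_sub, hσ']
    exact sub_eq_zero.2 (congrArg Subtype.val (hpr ⟨s x, mem_range_self s x⟩))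
  · have hf : ∀ x ∈ range s, (s ∘ₗ σ ∘ₗ pr - LinearMap.id : V →ₗ[k] V) x = 0 := fun x hx => by
      show s (σ (pr x)) - x = 0
      rw [hσ', hpr ⟨x, hx⟩, sub_self]
    let fbar : (V ⧸ range s) →ₗ[k] V := (range s).liftQ (s ∘ₗ σ ∘ₗ pr - LinearMap.id) hf
    exact (finRank_of_finiteDimensional_dom fbar).comp_right (range s).mkQ

end Groth.Agent.Residue24
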