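import Groth.Agent.Residue24.FiniteRankTrace
import Groth.Agent.FF.ExpDense
import Mathlib.RingTheory.Trace.Basic

/-!
# The residue as the trace of a commutator of compressed multiplications
-/

set_option autoImplicit false
set_option backward.isDefEq.respectTransparency.types false

universe u v w

namespace Groth.Agent.Residue24

open LinearMap LaurentSeries WithZero
open scoped LaurentSeries

variable {k : Type u} [Field k]

section Block

variable {V : Type v} [AddCommGroup V] [Module k V] (A : Submodule k V)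

/-- Compression of an endomorphism to a subspace along a retraction. -/
def blk (p : V →ₗ[k] A) (f : Module.End k V) : Module.End k A := p ∘ₗ f ∘ₗ A.subtype

theorem finRank_blk_sub {p p' : V →ₗ[k] A} (hp : ∀ x : A, p x = x) (hp' : ∀ x : A, p' x = x)
    {f : Module.End k V} (hf : FinRank (A.mkQ ∘ₗ f ∘ₗ A.subtype)) : FinRank (blk A p' f - blk A p f) := by
  have hker : A ≤ ker (p' - p) := fun x hx => by
    simp [hp ⟨x, hx⟩, hp' ⟨x, hx⟩]
  have e : blk A p' f - blk A p f = A.liftQ (p' - p) hker ∘ₗ (A.mkQ ∘ₗ f ∘ₗ A.subtype) := by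
    ext x; simp [blk]
  rw [e]
  exact hf.comp_left _

/-- The compressed commutator does not depend on the retraction. -/
theorem ftr_comm_blk_congr {p p' : V →ₗ[k] A} (hp : ∀ x : A, p x = x) (hp' : ∀ x : A, p' x = x)
    {f g : Module.End k V} (hf : FinRank (A.mkQ ∘ₗ f ∘ₗ A.subtype)) (hg : FinRank (A.mkQ ∘ₗ g ∘ₗ A.subtype))
    (h : FinRank (comm (blk A p f) (blk A p g))) :
    FinRank (comm (blk A p' f) (blk A p' g)) ∧
      ftr (comm (blk A p' f) (blk A p' g)) = ftr (comm (blk A p f) (blk A p g)) :=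
  ftr_comm_congr h (finRank_blk_sub A hp hp' hf) (finRank_blk_sub A hp hp' hg)

theorem trace_pi_eq_sum {F : Type v} [AddCommGroup F] [Module k F] [FiniteDimensional k F] {N : ℕ}
    (g : Module.End k (Fin N → F)) :
    trace k (Fin N → F) g =
      ∑ i, trace k F (LinearMap.proj i ∘ₗ g ∘ₗ LinearMap.single k (fun _ : Fin N => F) i) := by
  classical
  have e : g = ∑ i, (g ∘ₗ LinearMap.single k (fun _ : Fin N => F) i) ∘ₗ LinearMap.proj i := by
    ext x j
    simp only [LinearMap.sum_apply, LinearMap.comp_apply, LinearMap.proj_apply, LinearMap.single_apply]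
    rw [← map_sum, Finset.univ_sum_single]
  conv_lhs => rw [e, map_sum]
  exact Finset.sum_congr rfl fun i _ => trace_comp_comm' _ _

end Block

section Series

variable (k) (F : Type w) [Field F] [Algebra k F]

theorem coeff_algebra_smul (c : k) (f : F⸨X⸩) (n : ℤ) : (c • f).coeff n = algebraMap k F c * f.coeff n := by
  rw [HahnSeries.coeff_smul, Algebra.smul_def]

theorem smul_series_eq (c : k) (f : F⸨X⸩) : c • f = HahnSeries.C (algebraMap k F c) * f := by
  ext n
  rw [coeff_algebra_smul, HahnSeries.C_mul_eq_smul, HahnSeries.coeff_smul, smul_eq_mul]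

variable {F} in
/-- Multiplication by a series. -/
noncomputable def mulSeries (f : F⸨X⸩) : Module.End k F⸨X⸩ where
  toFun h := f * h
  map_add' := mul_add f
  map_smul' c h := by rw [RingHom.id_apply, smul_series_eq, smul_series_eq, mul_left_comm]

/-- Series without polar part. -/
def intSeries : Submodule k F⸨X⸩ where
  carrier := {f | ∀ n < 0, f.coeff n = 0}
  add_mem' {a b} ha hb n hn := by simp [ha n hn, hb n hn]
  zero_mem' n hn := rfl
  smul_mem' c a ha n hn := by rw [coeff_algebra_smul, ha n hn, mul_zero]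

theorem mem_intSeries {f : F⸨X⸩} : f ∈ intSeries k F ↔ ∀ n < 0, f.coeff n = 0 := Iff.rfl

/-- Removal of the polar part. -/
def trunc : F⸨X⸩ →ₗ[k] intSeries k F where
  toFun f := ⟨{ coeff := fun n => if 0 ≤ n then f.coeff n else 0
                isPWO_support' := f.isPWO_support.mono fun n hn => by
                  by_contra h
                  apply hn
                  simp [Function.notMem_support.1 h] },
    fun n hn => if_neg (not_le.2 hn)⟩
  map_add' f g := by
    apply Subtype.ext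
    ext n
    simp only [Submodule.coe_add, HahnSeries.coeff_add]
    split_ifs <;> simp
  map_smul' c f := by
    apply Subtype.ext
    ext n
    simp only [RingHom.id_apply, SetLike.val_smul, coeff_algebra_smul]
    split_ifs <;> simp

theorem trunc_coeff (f : F⸨X⸩) (n : ℤ) : (trunc k F f : F⸨X⸩).coeff n = if 0 ≤ n then f.coeff n else 0 := rfl

theorem trunc_of_mem (x : intSeries k F) : trunc k F x = x := by
  apply Subtype.ext
  ext n
  rw [trunc_coeff]
  split_ifs with h
  · rfl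
  · exact (x.2 n (not_le.1 h)).symm

variable {F}

theorem exists_bound (f : F⸨X⸩) : ∃ n : ℕ, ∀ m < -(n : ℤ), f.coeff m = 0 :=
  ⟨(-f.order).toNat, fun m hm => HahnSeries.coeff_eq_zero_of_lt_order (by omega)⟩

theorem coeff_mul_eq_sum (f h : F⸨X⸩) {n : ℕ} (hf : ∀ m < -(n : ℤ), f.coeff m = 0) (a : ℤ)
    (hh : ∀ m < a, h.coeff m = 0) (i : ℤ) :
    (f * h).coeff i = ∑ j ∈ Finset.Icc a (i + n), f.coeff (i - j) * h.coeff j := by
  rw [HahnSeries.coeff_mul]
  refine Finset.sum_bij_ne_zero (fun p _ _ => p.2) (fun p hp hne => ?_) (fun p₁ h₁ _ p₂ h₂ _ he => ?_)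
    (fun j hj hne => ?_) (fun p hp hne => ?_)
  · have hp' := (Finset.mem_addAntidiagonal.1 hp).2.2
    refine Finset.mem_Icc.2 ⟨not_lt.1 fun hl => hne (by rw [hh _ hl, mul_zero]), ?_⟩
    have : -(n : ℤ) ≤ p.1 := not_lt.1 fun hl => hne (by rw [hf _ hl, zero_mul])
    omega
  · have e₁ := (Finset.mem_addAntidiagonal.1 h₁).2.2
    have e₂ := (Finset.mem_addAntidiagonal.1 h₂).2.2
    exact Prod.ext (by omega) he
  · exact ⟨(i - j, j), Finset.mem_addAntidiagonal.2 ⟨left_ne_zero_of_mul hne, right_ne_zero_of_mul hne, by omega⟩,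
      hne, rfl⟩
  · have hp' := (Finset.mem_addAntidiagonal.1 hp).2.2
    rw [show i - p.2 = p.1 by omega]

theorem trunc_mul_mem {f h : F⸨X⸩} {n : ℕ} (hf : ∀ m < -(n : ℤ), f.coeff m = 0)
    (hh : ∀ m < (n : ℤ), h.coeff m = 0) : f * h ∈ intSeries k F := fun i hi => by
  rw [coeff_mul_eq_sum f h hf n hh i, Finset.Icc_eq_empty (by omega), Finset.sum_empty]

/-- The diagonal coefficient. -/
def T (f g : F⸨X⸩) (d : ℤ) : F := f.coeff (-d) * g.coeff d - g.coeff (-d) * f.coeff d

theorem coeff_comm_single (f g : F⸨X⸩) {n : ℕ} (hf : ∀ m < -(n : ℤ), f.coeff m = 0)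
    (hg : ∀ m < -(n : ℤ), g.coeff m = 0) (i : ℕ) (c : F) (x : intSeries k F)
    (hx : (x : F⸨X⸩) = HahnSeries.single (i : ℤ) c) :
    ((comm (blk _ (trunc k F) (mulSeries k f)) (blk _ (trunc k F) (mulSeries k g)) x : intSeries k F) : F⸨X⸩).coeff i =
      (∑ d ∈ Finset.Icc (-(i : ℤ)) n, T f g d) * c := by
  have key : ∀ p q : F⸨X⸩, (∀ m < -(n : ℤ), p.coeff m = 0) →
      ((blk _ (trunc k F) (mulSeries k p) (blk _ (trunc k F) (mulSeries k q) x) : intSeries k F) : F⸨X⸩).coeff i =
        (∑ d ∈ Finset.Icc (-(i : ℤ)) n, p.coeff (-d) * q.coeff d) * c := by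
    intro p q hp
    show (trunc k F (p * (trunc k F (q * (x : F⸨X⸩)) : F⸨X⸩)) : F⸨X⸩).coeff i = _
    rw [trunc_coeff, if_pos (Int.natCast_nonneg i),
      coeff_mul_eq_sum p _ hp 0 (fun m hm => by rw [trunc_coeff, if_neg (not_le.2 hm)]) i, Finset.sum_mul]
    refine Finset.sum_nbij' (fun j => j - i) (fun d => d + i)
      (fun j hj => by simp only [Finset.mem_Icc] at hj ⊢; omega)
      (fun d hd => by simp only [Finset.mem_Icc] at hd ⊢; omega)
      (fun j _ => by omega) (fun d _ => by omega) (fun j hj => ?_)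
    simp only [Finset.mem_Icc] at hj
    rw [trunc_coeff, if_pos hj.1, hx, HahnSeries.coeff_mul_single, neg_sub]
    ring
  simp only [comm, LinearMap.sub_apply, Module.End.mul_apply, Submodule.coe_sub, HahnSeries.coeff_sub]
  rw [key f g hf, key g f hg, ← sub_mul, ← Finset.sum_sub_distrib]
  rfl

theorem sum_range_Icc_T (f g : F⸨X⸩) {n : ℕ} (hf : ∀ m < -(n : ℤ), f.coeff m = 0)
    (hg : ∀ m < -(n : ℤ), g.coeff m = 0) :
    ∑ i ∈ Finset.range (2 * n), ∑ d ∈ Finset.Icc (-(i : ℤ)) n, T f g d = (f * LocRes.D F g).coeff (-1) := by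
  let S := Finset.Icc (-(n : ℤ)) n
  have hT0 : ∀ d, d < -(n : ℤ) → T f g d = 0 := fun d hd => by
    simp only [T, hf d hd, hg d hd, mul_zero, sub_self]
  have hneg : ∀ φ : ℤ → F, ∑ d ∈ S, φ (-d) = ∑ d ∈ S, φ d := fun φ =>
    Finset.sum_nbij' (fun d => -d) (fun d => -d) (fun d hd => by simp only [S, Finset.mem_Icc] at hd ⊢; omega)
      (fun d hd => by simp only [S, Finset.mem_Icc] at hd ⊢; omega) (fun d _ => neg_neg d) (fun d _ => neg_neg d)
      (fun d _ => rfl)
  have hodd : ∑ d ∈ S, T f g d = 0 := by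
    have h1 := hneg fun d => f.coeff (-d) * g.coeff d
    simp only [neg_neg] at h1
    simp only [T, Finset.sum_sub_distrib]
    rw [← h1, sub_eq_zero]
    exact Finset.sum_congr rfl fun d _ => mul_comm _ _
  have step : ∀ i ∈ Finset.range (2 * n), ∑ d ∈ Finset.Icc (-(i : ℤ)) n, T f g d =
      -∑ d ∈ S, if d < -(i : ℤ) then T f g d else 0 := by
    intro i hi
    have hsplit : ∑ d ∈ Finset.Icc (-(i : ℤ)) n, T f g d = ∑ d ∈ S, if -(i : ℤ) ≤ d then T f g d else 0 := by
      rw [← Finset.sum_filter]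
      refine (Finset.sum_subset (fun d hd => ?_) (fun d hd hd' => ?_)).symm
      · simp only [S, Finset.mem_filter, Finset.mem_Icc] at hd ⊢; omega
      · simp only [S, Finset.mem_filter, Finset.mem_Icc] at hd hd'
        exact hT0 d (by omega)
    rw [hsplit, eq_neg_iff_add_eq_zero, ← Finset.sum_add_distrib]
    refine Eq.trans ?_ hodd
    exact Finset.sum_congr rfl fun d _ => by split_ifs <;> first | (exfalso; omega) | simp
  rw [Finset.sum_congr rfl step, Finset.sum_neg_distrib, Finset.sum_comm]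
  have hcount : ∀ d ∈ S, ∑ i ∈ Finset.range (2 * n), (if d < -(i : ℤ) then T f g d else 0) =
      ((-d).toNat : F) * T f g d := fun d hd => by
    simp only [S, Finset.mem_Icc] at hd
    rw [← Finset.sum_filter, Finset.sum_const, nsmul_eq_mul]
    congr 2
    rw [show (Finset.range (2 * n)).filter (fun i : ℕ => d < -(i : ℤ)) = Finset.range (-d).toNat by
      ext i; simp only [Finset.mem_filter, Finset.mem_range]; omega, Finset.card_range]
  rw [Finset.sum_congr rfl hcount, coeff_mul_eq_sum f (LocRes.D F g) hf (-(n : ℤ) - 1)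
    (fun m hm => by rw [LocRes.D_coeff, hg (m + 1) (by omega), smul_zero]) (-1)]
  have hres : ∑ j ∈ Finset.Icc (-(n : ℤ) - 1) (-1 + n), f.coeff (-1 - j) * (LocRes.D F g).coeff j =
      ∑ d ∈ S, (d : F) * (f.coeff (-d) * g.coeff d) := by
    refine Finset.sum_nbij' (fun j => j + 1) (fun d => d - 1)
      (fun d hd => by simp only [S, Finset.mem_Icc] at hd ⊢; omega)
      (fun d hd => by simp only [S, Finset.mem_Icc] at hd ⊢; omega) (fun j _ => by omega) (fun j _ => by omega)
      (fun j _ => ?_)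
    rw [LocRes.D_coeff, zsmul_eq_mul, show -(j + 1) = -1 - j by omega]
    push_cast
    ring
  rw [hres, neg_eq_iff_add_eq_zero, ← Finset.sum_add_distrib]
  have h2 := hneg fun d => ((-d).toNat : F) * (g.coeff (-d) * f.coeff d)
  simp only [neg_neg] at h2
  rw [show ∑ d ∈ S, (((-d).toNat : F) * T f g d + (d : F) * (f.coeff (-d) * g.coeff d)) =
    ∑ d ∈ S, ((((-d).toNat : F) + (d : F)) * (f.coeff (-d) * g.coeff d) - ((-d).toNat : F) * (g.coeff (-d) * f.coeff d))
      from Finset.sum_congr rfl fun d _ => by simp only [T]; ring, Finset.sum_sub_distrib, ← h2, sub_eq_zero]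
  refine Finset.sum_congr rfl fun d _ => ?_
  have e : ((-d).toNat : F) + (d : F) = (d.toNat : F) := by
    have : ((-d).toNat : ℤ) + d = (d.toNat : ℤ) := by omega
    exact_mod_cast congrArg (fun z : ℤ => (z : F)) this
  rw [e, mul_comm (f.coeff (-d))]

variable [FiniteDimensional k F]

theorem finRank_mkQ_mul (f : F⸨X⸩) :
    FinRank ((intSeries k F).mkQ ∘ₗ mulSeries k f ∘ₗ (intSeries k F).subtype) := by
  obtain ⟨n, hn⟩ := exists_bound f
  let ψ : (Fin n → F) →ₗ[k] F⸨X⸩ :=
    { toFun := fun c => ∑ j : Fin n, HahnSeries.single (-(j : ℤ) - 1) (c j)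
      map_add' := fun c d => by simp [Finset.sum_add_distrib]
      map_smul' := fun a c => by
        simp only [RingHom.id_apply, Finset.smul_sum]
        refine Finset.sum_congr rfl fun j _ => ?_
        ext m
        rw [coeff_algebra_smul, HahnSeries.coeff_single, HahnSeries.coeff_single]
        split_ifs <;> simp [Algebra.smul_def] }
  refine FinRank.of_le (S := LinearMap.range ((intSeries k F).mkQ ∘ₗ ψ)) ?_
  rintro _ ⟨x, rfl⟩
  refine ⟨fun j => (f * (x : F⸨X⸩)).coeff (-(j : ℤ) - 1), (Submodule.Quotient.eq _).2 fun m hm => ?_⟩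
  show (ψ _ - f * (x : F⸨X⸩)).coeff m = 0
  simp only [ψ, LinearMap.coe_mk, AddHom.coe_mk, HahnSeries.coeff_sub, HahnSeries.coeff_sum,
    HahnSeries.coeff_single]
  by_cases hmn : -(n : ℤ) ≤ m
  · rw [Finset.sum_eq_single ⟨(-m - 1).toNat, by omega⟩]
    · rw [if_pos (by show m = -((-m - 1).toNat : ℤ) - 1; omega)]
      rw [show -((-m - 1).toNat : ℤ) - 1 = m by omega, sub_self]
    · intro b _ hb
      refine if_neg fun h => hb (Fin.ext ?_)
      show (b : ℕ) = (-m - 1).toNat
      omega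
    · simp
  · have hb : ∀ b : Fin n, m ≠ -(b : ℤ) - 1 := fun b => by have := b.2; omega
    simp only [hb, if_false, Finset.sum_const_zero]
    rw [zero_sub,
      coeff_mul_eq_sum f _ hn 0 x.2 m, Finset.Icc_eq_empty (by omega), Finset.sum_empty, neg_zero]

/-- Coefficients in a window. -/
def window (N : ℕ) : intSeries k F →ₗ[k] (Fin N → F) where
  toFun x i := (x : F⸨X⸩).coeff i
  map_add' x y := by ext i; simp
  map_smul' c x := by ext i; simp [coeff_algebra_smul, Algebra.smul_def]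

/-- The residue is the trace of the commutator of the truncated multiplications. -/
theorem ftr_comm_trunc (f g : F⸨X⸩) {n : ℕ} (hf : ∀ m < -(n : ℤ), f.coeff m = 0)
    (hg : ∀ m < -(n : ℤ), g.coeff m = 0) :
    (∀ x : intSeries k F, window k (2 * n) x = 0 →
      comm (blk _ (trunc k F) (mulSeries k f)) (blk _ (trunc k F) (mulSeries k g)) x = 0) ∧
    FinRank (comm (blk _ (trunc k F) (mulSeries k f)) (blk _ (trunc k F) (mulSeries k g))) ∧
      ftr (comm (blk _ (trunc k F) (mulSeries k f)) (blk _ (trunc k F) (mulSeries k g))) =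
        Algebra.trace k F ((f * LocRes.D F g).coeff (-1)) := by
  classical
  let N := 2 * n
  set C := comm (blk _ (trunc k F) (mulSeries k f)) (blk _ (trunc k F) (mulSeries k g)) with hCdef
  have hvan : ∀ x : intSeries k F, window k N x = 0 → C x = 0 := fun x hx => by
    have hx0 : ∀ m < (N : ℤ), (x : F⸨X⸩).coeff m = 0 := fun m hm => by
      rcases lt_or_ge m 0 with h | h
      · exact x.2 m h
      · lift m to ℕ using h
        exact congrFun hx ⟨m, by exact_mod_cast hm⟩
    have hmul : ∀ p : F⸨X⸩, (∀ m < -(n : ℤ), p.coeff m = 0) →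
        p * (x : F⸨X⸩) ∈ intSeries k F ∧ ∀ m < (n : ℤ), (p * (x : F⸨X⸩)).coeff m = 0 := fun p hp => by
      refine ⟨trunc_mul_mem k hp fun m hm => hx0 m (by omega), fun m hm => ?_⟩
      rw [coeff_mul_eq_sum p _ hp N hx0 m, Finset.Icc_eq_empty (by omega), Finset.sum_empty]
    obtain ⟨a1, a2⟩ := hmul f hf
    obtain ⟨b1, b2⟩ := hmul g hg
    apply Subtype.ext
    show ((trunc k F (f * (trunc k F (g * (x : F⸨X⸩)) : F⸨X⸩)) : F⸨X⸩) -
      (trunc k F (g * (trunc k F (f * (x : F⸨X⸩)) : F⸨X⸩)) : F⸨X⸩)) = 0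
    rw [show trunc k F (g * (x : F⸨X⸩)) = ⟨_, b1⟩ from trunc_of_mem k F ⟨_, b1⟩,
      show trunc k F (f * (x : F⸨X⸩)) = ⟨_, a1⟩ from trunc_of_mem k F ⟨_, a1⟩]
    rw [mul_left_comm g f, sub_self]
  let ψ : (Fin N → F) →ₗ[k] intSeries k F :=
    { toFun := fun c => ⟨∑ i : Fin N, HahnSeries.single (i : ℤ) (c i), fun m hm => by
        rw [HahnSeries.coeff_sum]
        exact Finset.sum_eq_zero fun i _ => HahnSeries.coeff_single_of_ne (by omega)⟩
      map_add' := fun c d => Subtype.ext (by simp [Finset.sum_add_distrib])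
      map_smul' := fun a c => Subtype.ext (by
        simp only [RingHom.id_apply, Submodule.coe_smul, Finset.smul_sum]
        refine Finset.sum_congr rfl fun j _ => ?_
        ext m
        rw [coeff_algebra_smul, HahnSeries.coeff_single, HahnSeries.coeff_single]
        split_ifs <;> simp [Algebra.smul_def]) }
  have hwψ : ∀ c, window k N (ψ c) = c := fun c => by
    funext i
    show (∑ j : Fin N, HahnSeries.single (j : ℤ) (c j)).coeff (i : ℤ) = c i
    rw [HahnSeries.coeff_sum, Finset.sum_eq_single i]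
    · rw [HahnSeries.coeff_single_same]
    · intro j _ hj
      exact HahnSeries.coeff_single_of_ne fun h => hj (Fin.ext (by omega))
    · simp
  have hfac : C = (C ∘ₗ ψ) ∘ₗ window k N := LinearMap.ext fun x => by
    show C x = C (ψ (window k N x))
    rw [← sub_eq_zero, ← map_sub]
    exact hvan _ (by rw [map_sub, hwψ, sub_self])
  have hfr : FinRank C := by rw [hfac]; exact (finRank_of_finiteDimensional_dom (C ∘ₗ ψ)).comp_right _
  refine ⟨hvan, hfr, ?_⟩
  rw [hfac, ftr_comp_comm _ _ (finRank_of_finiteDimensional_dom (C ∘ₗ ψ)), ftr_eq_of_finiteDimensional,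
    trace_pi_eq_sum, ← sum_range_Icc_T f g hf hg, map_sum, Finset.sum_range]
  refine Finset.sum_congr rfl fun i _ => ?_
  rw [Algebra.trace_apply]
  refine congrArg _ (LinearMap.ext fun c => ?_)
  show ((C (ψ (Pi.single i c)) : intSeries k F) : F⸨X⸩).coeff (i : ℤ) = _
  rw [hCdef, coeff_comm_single k f g hf hg i c (ψ (Pi.single i c)) ?_]
  · rfl
  · show ∑ j : Fin N, HahnSeries.single (j : ℤ) ((Pi.single i c : Fin N → F) j) = _
    rw [Finset.sum_eq_single i]
    · rw [Pi.single_eq_same]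
    · intro j _ hj
      rw [Pi.single_eq_of_ne hj, map_zero]
    · simp

end Series

section Transfer

variable {F : Type w} [Field F] [Algebra k F] [FiniteDimensional k F] {K : Type v} [Field K] [Algebra k K]
  (v : Valuation K (WithZero (Multiplicative ℤ)))

/-- The compressed multiplications on a valuation ring with an expansion compute the residue. -/
theorem ftr_comm_valuation (O : Submodule k K) (hO : ∀ x, x ∈ O ↔ v x ≤ 1)
    (φ : K →ₐ[k] F⸨X⸩) (hφ : ∀ x, Valued.v (φ x) = v x)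
    (hdense : ∀ (y : F⸨X⸩) (N : ℤ), ∃ z : K, Valued.v (φ z - y) ≤ exp (-N))
    (p : K →ₗ[k] O) (hp : ∀ x : O, p x = x) (f g : K) :
    FinRank (O.mkQ ∘ₗ mulLeft k f ∘ₗ O.subtype) ∧
    FinRank (comm (blk O p (mulLeft k f)) (blk O p (mulLeft k g))) ∧
      ftr (comm (blk O p (mulLeft k f)) (blk O p (mulLeft k g))) = LocRes.locRes φ f g := by
  let A := intSeries k F
  have hA : ∀ y : F⸨X⸩, y ∈ A ↔ Valued.v y ≤ (1 : WithZero (Multiplicative ℤ)) := fun y => by
    rw [mem_intSeries, show (1 : WithZero (Multiplicative ℤ)) = exp (-(0 : ℤ)) by simp,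
      LaurentSeries.valuation_le_iff_coeff_lt_eq_zero]
  have hOA : ∀ x, x ∈ O ↔ φ x ∈ A := fun x => by rw [hO, hA, hφ]
  let Φ : K →ₗ[k] F⸨X⸩ :=
    { toFun := fun x => φ x
      map_add' := map_add φ
      map_smul' := fun c x => by
        rw [RingHom.id_apply, Algebra.smul_def, map_mul, LocRes.map_algebraMap, smul_series_eq] }
  let q : K →ₗ[k] F⸨X⸩ ⧸ A := A.mkQ ∘ₗ Φ
  have hqsurj : Function.Surjective q := fun y => by
    obtain ⟨y, rfl⟩ := A.mkQ_surjective y
    obtain ⟨z, hz⟩ := hdense y 0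
    exact ⟨z, (Submodule.Quotient.eq A).2 ((hA _).2 (show Valued.v (φ z - y) ≤ _ by simpa using hz))⟩
  obtain ⟨σ, hσ⟩ := q.exists_rightInverse_of_surjective (LinearMap.range_eq_top.2 hqsurj)
  have hσ' : ∀ y, A.mkQ (φ (σ y)) = y := fun y => LinearMap.congr_fun hσ y
  let pL : F⸨X⸩ →ₗ[k] A := LinearMap.codRestrict A (LinearMap.id - Φ ∘ₗ σ ∘ₗ A.mkQ) fun y =>
    (Submodule.Quotient.eq A).1 (hσ' (A.mkQ y)).symm
  have hpL : ∀ x : A, pL x = x := fun x => Subtype.ext (by
    show (x : F⸨X⸩) - φ (σ (A.mkQ (x : F⸨X⸩))) = x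
    rw [Submodule.mkQ_apply, (Submodule.Quotient.mk_eq_zero A).2 x.2, map_zero, map_zero, sub_zero])
  let pK : K →ₗ[k] O := LinearMap.codRestrict O (LinearMap.id - σ ∘ₗ q) fun x => (hOA _).2 (by
    show φ (x - σ (q x)) ∈ A
    rw [map_sub]
    exact (Submodule.Quotient.eq A).1 (hσ' (q x)).symm)
  have hpK : ∀ x : O, pK x = x := fun x => Subtype.ext (by
    show (x : K) - σ (q x) = x
    rw [show q x = 0 from (Submodule.Quotient.mk_eq_zero A).2 ((hOA _).1 x.2), map_zero, sub_zero])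
  let s : O →ₗ[k] A := (Φ ∘ₗ O.subtype).codRestrict A fun x => (hOA _).1 x.2
  have hs : ∀ h : K, s ∘ₗ blk O pK (mulLeft k h) = blk A pL (mulSeries k (φ h)) ∘ₗ s := fun h =>
    LinearMap.ext fun x => Subtype.ext (by
      show φ (h * x - σ (A.mkQ (φ (h * x)))) = φ h * φ x - φ (σ (A.mkQ (φ h * φ x)))
      rw [map_sub, map_mul])
  have hfin : ∀ h : K, FinRank (O.mkQ ∘ₗ mulLeft k h ∘ₗ O.subtype) := fun h => by
    let ι : K ⧸ O →ₗ[k] F⸨X⸩ ⧸ A := O.liftQ q fun x hx => (Submodule.Quotient.mk_eq_zero A).2 ((hOA x).1 hx)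
    have hι : Function.Injective ι := (injective_iff_map_eq_zero ι).2 fun x hx => by
      obtain ⟨x, rfl⟩ := O.mkQ_surjective x
      exact (Submodule.Quotient.mk_eq_zero O).2 ((hOA x).2 ((Submodule.Quotient.mk_eq_zero A).1 hx))
    have e : ι ∘ₗ (O.mkQ ∘ₗ mulLeft k h ∘ₗ O.subtype) = (A.mkQ ∘ₗ mulSeries k (φ h) ∘ₗ A.subtype) ∘ₗ s :=
      LinearMap.ext fun x => congrArg A.mkQ (map_mul φ h x)
    have hfr : FinRank (ι ∘ₗ (O.mkQ ∘ₗ mulLeft k h ∘ₗ O.subtype)) := by
      rw [e]; exact (finRank_mkQ_mul k (φ h)).comp_right s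
    unfold FinRank at hfr ⊢
    rw [LinearMap.range_comp] at hfr
    haveI := hfr
    exact Module.Finite.equiv (Submodule.equivMapOfInjective ι hι _).symm
  obtain ⟨n₁, hn₁⟩ := exists_bound (φ f)
  obtain ⟨n₂, hn₂⟩ := exists_bound (φ g)
  let n := max n₁ n₂
  obtain ⟨hvan, hfr, htr⟩ := ftr_comm_trunc k (φ f) (φ g) (n := n) (fun m hm => hn₁ m (by omega))
    (fun m hm => hn₂ m (by omega))
  let CL := comm (blk A pL (mulSeries k (φ f))) (blk A pL (mulSeries k (φ g)))
  obtain ⟨hLfr, hLtr⟩ := ftr_comm_blk_congr A (trunc_of_mem k F) hpL (finRank_mkQ_mul k (φ f))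
    (finRank_mkQ_mul k (φ g)) hfr
  let CK := comm (blk O pK (mulLeft k f)) (blk O pK (mulLeft k g))
  have hCs : s ∘ₗ CK = CL ∘ₗ s := LinearMap.ext fun x => by
    have h1 : ∀ h x, s (blk O pK (mulLeft k h) x) = blk A pL (mulSeries k (φ h)) (s x) := fun h x =>
      LinearMap.congr_fun (hs h) x
    simp only [CK, CL, comm, LinearMap.comp_apply, LinearMap.sub_apply, Module.End.mul_apply, map_sub, h1]
  let N := 2 * n
  have hCLvan : ∀ x : A, (∀ m < (N : ℤ), (x : F⸨X⸩).coeff m = 0) → CL x = 0 := fun x hx => by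
    have hm : ∀ h : F⸨X⸩, (∀ m < -(n : ℤ), h.coeff m = 0) →
        h * (x : F⸨X⸩) ∈ A ∧ ∀ m < (n : ℤ), (h * (x : F⸨X⸩)).coeff m = 0 := fun h hh => by
      refine ⟨trunc_mul_mem k hh fun m hm => hx m (by omega), fun m hm => ?_⟩
      rw [coeff_mul_eq_sum h _ hh N hx m, Finset.Icc_eq_empty (by omega), Finset.sum_empty]
    obtain ⟨a1, a2⟩ := hm (φ f) fun m hm => hn₁ m (by omega)
    obtain ⟨b1, b2⟩ := hm (φ g) fun m hm => hn₂ m (by omega)
    apply Subtype.ext
    show ((pL (φ f * (pL (φ g * (x : F⸨X⸩)) : F⸨X⸩)) : F⸨X⸩) -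
      (pL (φ g * (pL (φ f * (x : F⸨X⸩)) : F⸨X⸩)) : F⸨X⸩)) = 0
    rw [show pL (φ g * (x : F⸨X⸩)) = ⟨_, b1⟩ from hpL ⟨_, b1⟩,
      show pL (φ f * (x : F⸨X⸩)) = ⟨_, a1⟩ from hpL ⟨_, a1⟩]
    rw [mul_left_comm (φ g) (φ f), sub_self]
  let π : A →ₗ[k] (Fin N → F) := window k N
  have hπs : Function.Surjective (π ∘ₗ s) := fun c => by
    classical
    let y : F⸨X⸩ := ∑ i : Fin N, HahnSeries.single (i : ℤ) (c i)
    obtain ⟨z, hz⟩ := hdense y N
    have hz' := (LaurentSeries.valuation_le_iff_coeff_lt_eq_zero F).1 hz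
    have hy : ∀ m < 0, y.coeff m = 0 := fun m hm => by
      rw [HahnSeries.coeff_sum]
      exact Finset.sum_eq_zero fun i _ => HahnSeries.coeff_single_of_ne (by omega)
    have hzO : z ∈ O := (hOA z).2 fun m hm => by
      have := hz' m (by omega)
      rw [HahnSeries.coeff_sub, hy m hm, sub_zero] at this
      exact this
    refine ⟨⟨z, hzO⟩, funext fun i => ?_⟩
    show (φ z).coeff (i : ℤ) = c i
    have := hz' (i : ℤ) (by have := i.2; omega)
    rw [HahnSeries.coeff_sub, sub_eq_zero] at this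
    rw [this, HahnSeries.coeff_sum, Finset.sum_eq_single i]
    · rw [HahnSeries.coeff_single_same]
    · intro j _ hj
      exact HahnSeries.coeff_single_of_ne fun h => hj (Fin.ext (by omega))
    · simp
  obtain ⟨τ, hτ⟩ := (π ∘ₗ s).exists_rightInverse_of_surjective (LinearMap.range_eq_top.2 hπs)
  have hvanA : ∀ x : A, π x = 0 → CL x = 0 := fun x hx => hCLvan x fun m hm => by
    rcases lt_or_ge m 0 with h | h
    · exact x.2 m h
    · lift m to ℕ using h
      exact congrFun hx ⟨m, by exact_mod_cast hm⟩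
  have hsinj : Function.Injective s := fun x y h => Subtype.ext (φ.toRingHom.injective (congrArg Subtype.val h))
  have hfac : CK = (CK ∘ₗ τ) ∘ₗ (π ∘ₗ s) := LinearMap.ext fun x => hsinj (by
    show (s ∘ₗ CK) x = (s ∘ₗ CK) (τ ((π ∘ₗ s) x))
    rw [← sub_eq_zero, ← map_sub, hCs, LinearMap.comp_apply]
    refine hvanA _ ?_
    show (π ∘ₗ s) (x - τ ((π ∘ₗ s) x)) = 0
    rw [map_sub]
    exact sub_eq_zero.2 (LinearMap.congr_fun hτ _).symm)
  have hCLfac : CL = (CL ∘ₗ s ∘ₗ τ) ∘ₗ π := LinearMap.ext fun x => by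
    show CL x = CL (s (τ (π x)))
    rw [← sub_eq_zero, ← map_sub]
    refine hvanA _ ?_
    rw [map_sub, sub_eq_zero]
    exact (LinearMap.congr_fun hτ _).symm
  have hKfr : FinRank CK := by
    rw [hfac]; exact (finRank_of_finiteDimensional_dom (CK ∘ₗ τ)).comp_right _
  have hKtr : ftr CK = ftr CL := by
    conv_lhs => rw [hfac]
    conv_rhs => rw [hCLfac]
    rw [ftr_comp_comm _ _ (finRank_of_finiteDimensional_dom (CK ∘ₗ τ)),
      ftr_comp_comm _ _ (finRank_of_finiteDimensional_dom (CL ∘ₗ s ∘ₗ τ))]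
    refine congrArg ftr ?_
    rw [LinearMap.comp_assoc, ← LinearMap.comp_assoc τ CK s, hCs]
    rfl
  obtain ⟨r1, r2⟩ := ftr_comm_blk_congr O hpK hp (hfin f) (hfin g) hKfr
  refine ⟨hfin f, r1, r2.trans (hKtr.trans (hLtr.trans (htr.trans ?_)))⟩
  rw [LocRes.locRes, LocRes.resExp, LocRes.res_apply]

end Transfer

end Groth.Agent.Residue24
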