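import Groth.Agent.Residue24.WeilDiff
import Groth.Agent.FF.Geometric
import Groth.Agent.FF.ExtConst
import Groth.Agent.FF.Extension

/-!
# Riemann–Hurwitz through expansions
-/

set_option autoImplicit false
set_option backward.isDefEq.respectTransparency.types false

universe u v w

namespace Groth.Agent.Residue24

open WithZero FunFld Groth.Agent.FF IntermediateField
open scoped LaurentSeries

section
variable {k : Type u} {K : Type v} [Field k] [Field K] [Algebra k K]

theorem finiteDimensional_coeffField (hK : IsFunctionField k K) {P : Place k K} {F : Type w} [Field F]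
    [Algebra k F] {φ : K →ₐ[k] F⸨X⸩} (hφ : LocRes.IsExpansionAt P.1 φ) : FiniteDimensional k F := by
  have := finiteDimensional_residue hK P
  have hval : ∀ a : P.O, Valued.v (φ (a : K)) ≤ exp (-(0 : ℤ)) := fun a => by
    rw [hφ.1, neg_zero, exp_zero]; exact a.2
  let r : P.O →+* F :=
    { toFun := fun a => (φ (a : K)).coeff 0
      map_one' := by simp [HahnSeries.coeff_one]
      map_mul' := fun a b => by
        obtain ⟨A, hA⟩ := (LaurentSeries.val_le_one_iff_eq_coe F (φ (a : K))).mp (by simpa using hval a)
        obtain ⟨B, hB⟩ := (LaurentSeries.val_le_one_iff_eq_coe F (φ (b : K))).mp (by simpa using hval b)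
        rw [Subring.coe_mul, map_mul, ← hA, ← hB, ← PowerSeries.coe_mul, PowerSeries.coeff_coe,
          PowerSeries.coeff_coe, PowerSeries.coeff_coe]
        simp
      map_zero' := by simp
      map_add' := fun a b => by simp }
  have hr : Function.Surjective r := fun x => by
    obtain ⟨f, hf, hfx⟩ := hφ.2.1 x
    exact ⟨⟨f, hf⟩, hfx⟩
  have hker : IsLocalRing.maximalIdeal P.O = RingHom.ker r :=
    ((IsLocalRing.eq_maximalIdeal (RingHom.ker_isMaximal_of_surjective r hr))).symm
  let rb : IsLocalRing.ResidueField P.O →+* F := Ideal.Quotient.lift (IsLocalRing.maximalIdeal P.O) r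
    fun a ha => RingHom.mem_ker.mp (hker ▸ ha)
  let l : @AlgHom k (IsLocalRing.ResidueField P.O) F _ _ _ (Place.algRes P) _ :=
    { rb with
      commutes' := fun c => by
        show (φ (algebraMap k K c)).coeff 0 = algebraMap k F c
        rw [LocRes.map_algebraMap, HahnSeries.C_apply, HahnSeries.coeff_single_same] }
  let l' : IsLocalRing.ResidueField P.O →ₗ[k] F :=
    { toFun := fun y => l y
      map_add' := fun a b => map_add l a b
      map_smul' := fun c a => map_smul l.toLinearMap c a }
  have hfd : FiniteDimensional k (IsLocalRing.ResidueField P.O) := finiteDimensional_residue hK P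
  refine ⟨?_⟩
  rw [← LinearMap.range_eq_top.mpr (show Function.Surjective l' from fun x => by
    obtain ⟨a, ha⟩ := hr x
    exact ⟨IsLocalRing.residue _ a, ha⟩), LinearMap.range_eq_map]
  exact hfd.fg_top.map l'

variable {F : Place k K → Type w} [∀ P, Field (F P)] [∀ P, Algebra k (F P)]
  {φ : ∀ P, K →ₐ[k] (F P)⸨X⸩} (hφ : ∀ P, LocRes.IsExpansionAt P.1 (φ P))

include hφ in
/-- The divisor of `dx` is canonical, of degree `2g - 2`. -/
theorem exists_divisor_dx (hK : IsFunctionField k K) (hg : IsGeometric k K) {x : K}
    (hx : ∀ P, LocRes.vDiff (φ P) 1 x ≠ 0) :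
    ∃ C : Divisor k K, (∀ P, C P = LocRes.ordDiff (φ P) 1 x) ∧ C.deg = 2 * (genus k K : ℤ) - 2 := by
  have : ∀ P, FiniteDimensional k (F P) := fun P => finiteDimensional_coeffField hK (hφ P)
  obtain ⟨P⟩ := nonempty_place hK
  have hv : KaehlerDifferential.D k K x ≠ 0 := D_ne_zero_of_exp (φ P) fun h => hx P (by
    rw [LocRes.vDiff, h, mul_zero, map_zero])
  obtain ⟨C, hC1, hC2⟩ := exists_divisor hφ hK hg one_ne_zero hv
  exact ⟨C, hC1, (ell_canonical hK ⟨_, resForm_ne_zero hφ hK hg one_ne_zero hv, hC2⟩).2⟩

end

section Ext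

variable {k k' : Type u} {K K' : Type v} [Field k] [Field k'] [Field K] [Field K']
  [Algebra k k'] [Algebra k K] [Algebra K K'] [Algebra k' K'] [Algebra k K']
  [IsScalarTower k k' K'] [IsScalarTower k K K'] [FiniteDimensional k k']

theorem val_algebraMap_le_one (Q : Place k K') (c : k') : Q.1 (algebraMap k' K' c) ≤ 1 :=
  val_le_one_of_mem_consts Q (mem_algebraicClosure_iff'.mpr ((IsIntegral.of_finite k c).algebraMap))

variable (k k' K') in
/-- Places over the bigger constant field are the places over the smaller one. -/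
def placeRestrict : Place k' K' ≃ Place k K' where
  toFun Q := ⟨Q.1, fun c => by rw [IsScalarTower.algebraMap_apply k k' K']; exact Q.2.1 _, Q.2.2⟩
  invFun Q := ⟨Q.1, val_algebraMap_le_one Q, Q.2.2⟩
  left_inv _ := rfl
  right_inv _ := rfl

theorem deg_placeRestrict (Q : Place k' K') :
    (placeRestrict k k' K' Q).deg = Module.finrank k k' * Q.deg := by
  let a : Algebra k (IsLocalRing.ResidueField Q.O) := Place.algRes (placeRestrict k k' K' Q)
  exact @finrank_restrict k k' (IsLocalRing.ResidueField Q.O) _ _ _ _ a (Place.algRes Q)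
    fun c => congrArg (IsLocalRing.residue Q.O) (Subtype.ext (IsScalarTower.algebraMap_apply k k' K' c))

theorem deg_restrict (D : Divisor k' K') :
    FunFld.Divisor.deg (Finsupp.equivMapDomain (placeRestrict k k' K') D) = Module.finrank k k' * D.deg := by
  induction D using Finsupp.induction_linear with
  | zero =>
    rw [Finsupp.equivMapDomain_zero, deg_zero, deg_zero, mul_zero]
  | add D E hD hE =>
    rw [show Finsupp.equivMapDomain (placeRestrict k k' K') (D + E) =
      Finsupp.equivMapDomain (placeRestrict k k' K') D + Finsupp.equivMapDomain (placeRestrict k k' K') E from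
        Finsupp.ext fun _ => rfl, deg_add, hD, hE, deg_add, mul_add]
  | single Q n => rw [Finsupp.equivMapDomain_single, deg_single, deg_single, deg_placeRestrict]; push_cast; ring

theorem isGeometric_ext [FiniteDimensional K K'] [Algebra.IsSeparable K K'] (hK : IsFunctionField k K)
    (hg : IsGeometric k K) (hK' : IsFunctionField k' K') : IsGeometric k' K' := by
  obtain ⟨t, ht, -, hsep⟩ := exists_separating_of_isGeometric hK hg
  set s := algebraMap K K' t
  have hts : Transcendental k' s := fun h => ht ((isAlgebraic_algebraMap_iff (algebraMap K K').injective).mp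
    (h.restrictScalars k))
  haveI := Algebra.IsSeparable.trans k⟮t⟯ K K'
  have hmem : ∀ z : K, z ∈ k⟮t⟯ → algebraMap K K' z ∈ k'⟮s⟯ := by
    intro z hz
    induction hz using IntermediateField.adjoin_induction with
    | mem y hy => rw [Set.mem_singleton_iff.mp hy]; exact IntermediateField.mem_adjoin_simple_self k' _
    | algebraMap c =>
      rw [← IsScalarTower.algebraMap_apply k K K', IsScalarTower.algebraMap_apply k k' K']
      exact k'⟮s⟯.algebraMap_mem _
    | add a b _ _ ha hb => rw [map_add]; exact add_mem ha hb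
    | inv a _ ha => rw [map_inv₀]; exact inv_mem ha
    | mul a b _ _ ha hb => rw [map_mul]; exact mul_mem ha hb
  letI : Algebra k⟮t⟯ k'⟮s⟯ := (((algebraMap K K').comp (algebraMap k⟮t⟯ K)).codRestrict k'⟮s⟯.toSubalgebra
    fun z => hmem z z.2).toAlgebra
  haveI : IsScalarTower k⟮t⟯ k'⟮s⟯ K' := IsScalarTower.of_algebraMap_eq fun _ => rfl
  haveI := Algebra.isSeparable_tower_top_of_isSeparable k⟮t⟯ k'⟮s⟯ K'
  exact isGeometric_of_separating hK' hts

end Ext

end Groth.Agent.Residue24
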