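import Groth.Agent.Residue24.Laurent
import Groth.Agent.FF.RiemannRoch

/-!
# The residue theorem for a function field with expansions at all places
-/

set_option autoImplicit false
set_option backward.isDefEq.respectTransparency.types false
set_option backward.isDefEq.respectTransparency false

universe u v w v₁ v₂

namespace Groth.Agent.Residue24

open LinearMap WithZero FunFld Groth.Agent.FF
open scoped LaurentSeries

variable {k : Type u} {K : Type v} [Field k] [Field K] [Algebra k K]

/-- The elements integral at a place. -/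
def intAt (P : Place k K) : Submodule k K where
  carrier := {x | P.1 x ≤ 1}
  add_mem' {a b} ha hb := (P.1.map_add a b).trans (max_le ha hb)
  zero_mem' := by simp
  smul_mem' c x hx := by
    show P.1 (c • x) ≤ 1
    rw [Algebra.smul_def, map_mul]
    exact mul_le_one' (P.2.1 c) hx

theorem mem_intAt {P : Place k K} {x : K} : x ∈ intAt P ↔ P.1 x ≤ 1 := Iff.rfl

/-- A retraction onto the integral elements. -/
noncomputable def retr (P : Place k K) : K →ₗ[k] intAt P :=
  Submodule.linearProjOfIsCompl (intAt P) _ (Submodule.exists_isCompl (intAt P)).choose_spec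

theorem retr_apply (P : Place k K) (x : intAt P) : retr P (x : K) = x :=
  Submodule.linearProjOfIsCompl_apply_left (Submodule.exists_isCompl (intAt P)).choose_spec x

/-- The residue pairing at a place. -/
noncomputable abbrev commAt (P : Place k K) (f g : K) : Module.End k (intAt P) :=
  comm (blk _ (retr P) (mulLeft k f)) (blk _ (retr P) (mulLeft k g))

theorem local_residue {P : Place k K} {F : Type w} [Field F] [Algebra k F] [FiniteDimensional k F]
    {φ : K →ₐ[k] F⸨X⸩} (hφ : LocRes.IsExpansionAt P.1 φ) (f g : K) :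
    FinRank ((intAt P).mkQ ∘ₗ mulLeft k f ∘ₗ (intAt P).subtype) ∧
    FinRank (commAt P f g) ∧ ftr (commAt P f g) = LocRes.locRes φ f g :=
  ftr_comm_valuation P.1 (intAt P) (fun _ => Iff.rfl) φ hφ.1 (exists_near_expansion hφ) (retr P) (retr_apply P) f g

theorem commAt_eq_zero {P : Place k K} {f g : K} (hf : P.1 f ≤ 1) (hg : P.1 g ≤ 1) : commAt P f g = 0 := by
  refine LinearMap.ext fun x => Subtype.ext ?_
  have h : ∀ h : K, P.1 h ≤ 1 → ∀ y : intAt P, (blk _ (retr P) (mulLeft k h) y : K) = h * y := fun h hh y => by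
    have hm : h * (y : K) ∈ intAt P := by
      rw [mem_intAt, map_mul]; exact mul_le_one' hh y.2
    exact congrArg Subtype.val (retr_apply P ⟨_, hm⟩)
  simp only [comm, LinearMap.sub_apply, Module.End.mul_apply, Submodule.coe_sub, LinearMap.zero_apply,
    Submodule.coe_zero, h f hf, h g hg]
  ring

section abstract

variable {A : Type v₁} [AddCommGroup A] [Module k A] {B : Type v₂} [AddCommGroup B] [Module k B]

/-- The global step of Tate's proof. -/
theorem ftr_comm_eq_zero_of_almost_compl (I : Submodule k A) (δ : B →ₗ[k] A) (r : A →ₗ[k] I)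
    (hr : ∀ x : I, r x = x) (f g : Module.End k A) (f' g' : Module.End k B)
    (hf : f ∘ₗ δ = δ ∘ₗ f') (hg : g ∘ₗ δ = δ ∘ₗ g') (hfg : comm f g = 0) (hfg' : comm f' g' = 0)
    [FiniteDimensional k ↥(I.comap δ)] [FiniteDimensional k (A ⧸ (I ⊔ LinearMap.range δ))]
    (hF : FinRank (I.mkQ ∘ₗ f ∘ₗ I.subtype)) (hG : FinRank (I.mkQ ∘ₗ g ∘ₗ I.subtype))
    (hc : FinRank (comm (blk I r f) (blk I r g))) : ftr (comm (blk I r f) (blk I r g)) = 0 := by
  let s : (I × B) →ₗ[k] A := I.subtype.coprod δ
  have hrange : LinearMap.range s = I ⊔ LinearMap.range δ := by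
    rw [LinearMap.range_coprod, Submodule.range_subtype]
  haveI : FiniteDimensional k (A ⧸ LinearMap.range s) := by rw [hrange]; infer_instance
  have hmem : ∀ z : LinearMap.ker s, (z : I × B).2 ∈ I.comap δ := fun z => by
    have h1 : ((z : I × B).1 : A) + δ (z : I × B).2 = 0 := LinearMap.mem_ker.1 z.2
    show δ _ ∈ I
    rw [eq_neg_of_add_eq_zero_right h1]
    exact neg_mem (z : I × B).1.2
  haveI : FiniteDimensional k (LinearMap.ker s) := by
    refine FiniteDimensional.of_injective
      (((LinearMap.snd k I B) ∘ₗ (LinearMap.ker s).subtype).codRestrict (I.comap δ) hmem)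
      ((injective_iff_map_eq_zero _).2 fun z hz => ?_)
    have hy : (z : I × B).2 = 0 := congrArg Subtype.val hz
    have h2 : ((z : I × B).1 : A) + δ (z : I × B).2 = 0 := LinearMap.mem_ker.1 z.2
    rw [hy, map_zero, add_zero] at h2
    exact Subtype.ext (Prod.ext (Subtype.ext h2) hy)
  obtain ⟨t, ht1, ht2⟩ := exists_pseudoInverse s
  have hcomm : comm ((blk I r f).prodMap f') ((blk I r g).prodMap g') =
      LinearMap.inl k I B ∘ₗ (comm (blk I r f) (blk I r g) ∘ₗ LinearMap.fst k I B) := by
    refine LinearMap.ext fun z => Prod.ext rfl ?_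
    show f' (g' z.2) - g' (f' z.2) = 0
    exact DFunLike.congr_fun hfg' z.2
  have hdiff : ∀ (h : Module.End k A) (h' : Module.End k B), h ∘ₗ δ = δ ∘ₗ h' →
      FinRank (I.mkQ ∘ₗ h ∘ₗ I.subtype) → FinRank (s ∘ₗ (blk I r h).prodMap h' - h ∘ₗ s) := by
    intro h h' hh hH
    let ι : (A ⧸ I) →ₗ[k] A := I.liftQ (I.subtype ∘ₗ r - LinearMap.id) fun x hx => by
      show ((r x : I) : A) - x = 0
      rw [show r x = ⟨x, hx⟩ from hr ⟨x, hx⟩, sub_self]
    have e : s ∘ₗ (blk I r h).prodMap h' - h ∘ₗ s =
        ι ∘ₗ (I.mkQ ∘ₗ h ∘ₗ I.subtype) ∘ₗ LinearMap.fst k I B := by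
      refine LinearMap.ext fun z => ?_
      show ((r (h z.1) : I) : A) + δ (h' z.2) - h ((z.1 : A) + δ z.2) = ((r (h z.1) : I) : A) - h z.1
      rw [map_add, show h (δ z.2) = δ (h' z.2) from DFunLike.congr_fun hh z.2]
      abel
    rw [e]
    exact (hH.comp_right _).comp_left _
  obtain ⟨-, htr⟩ := ftr_comm_transfer s t ht1 ht2 (a := (blk I r f).prodMap f')
    (b := (blk I r g).prodMap g') (a' := f) (b' := g) (hcomm ▸ (hc.comp_right _).comp_left _)
    (hdiff f f' hf hF) (hdiff g g' hg hG)
  rw [hfg, ftr_zero, hcomm, ftr_comp_comm' _ _ (hc.comp_right _),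
    show (comm (blk I r f) (blk I r g) ∘ₗ LinearMap.fst k I B) ∘ₗ LinearMap.inl k I B =
      comm (blk I r f) (blk I r g) from LinearMap.ext fun x => rfl] at htr
  exact htr.symm

end abstract

variable (hK : IsFunctionField k K)

/-- Multiplication on the adeles. -/
noncomputable def mulAdele (f : K) : Module.End k (adele k K) :=
  ((LinearMap.pi fun P => (mulLeft k f) ∘ₗ (LinearMap.proj P : (Place k K → K) →ₗ[k] K)).comp
    (adele k K).subtype).codRestrict (adele k K) fun a => smul_mem_adele hK f a.1 a.2

theorem mulAdele_apply (f : K) (a : adele k K) (P : Place k K) :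
    (mulAdele hK f a : Place k K → K) P = f * (a : Place k K → K) P := rfl

variable (k K) in
/-- The everywhere integral adeles. -/
abbrev intAdele : Submodule k (adele k K) := (AD (0 : Divisor k K)).comap (adele k K).subtype

theorem mem_intAdele {a : adele k K} :
    a ∈ intAdele k K ↔ ∀ P, (a : Place k K → K) P ∈ intAt P := by
  refine forall_congr' fun P => ?_
  rw [Finsupp.zero_apply, exp_zero]; rfl

variable (k K) in
/-- Retraction onto the everywhere integral adeles. -/
noncomputable def retrAdele : adele k K →ₗ[k] intAdele k K :=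
  LinearMap.codRestrict (intAdele k K)
    (((LinearMap.pi fun P => (intAt P).subtype ∘ₗ retr P ∘ₗ (LinearMap.proj P : (Place k K → K) →ₗ[k] K)).comp
      (adele k K).subtype).codRestrict (adele k K) fun a => AD_le_adele 0 fun P => by
        rw [Finsupp.zero_apply, exp_zero]; exact (retr P _).2)
    fun a => mem_intAdele.2 fun P => (retr P _).2

theorem retrAdele_apply (a : adele k K) (P : Place k K) :
    ((retrAdele k K a : adele k K) : Place k K → K) P = retr P ((a : Place k K → K) P) := rfl

theorem retrAdele_of_mem (x : intAdele k K) : retrAdele k K x = x :=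
  Subtype.ext (Subtype.ext (funext fun P => congrArg Subtype.val (retr_apply P ⟨_, mem_intAdele.1 x.2 P⟩)))

/-- Inclusion at one place. -/
noncomputable def singleAdele (P : Place k K) : K →ₗ[k] adele k K :=
  letI := Classical.decEq (Place k K)
  (LinearMap.single k (fun _ : Place k K => K) P).codRestrict (adele k K) fun x =>
    Filter.mem_cofinite.mpr ((Set.finite_singleton P).subset fun Q hQ => by
      by_contra hne
      apply hQ
      show Q.1 ((Pi.single P x : Place k K → K) Q) ≤ 1
      rw [Pi.single_eq_of_ne hne, map_zero]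
      exact zero_le)

theorem singleAdele_apply [DecidableEq (Place k K)] (P Q : Place k K) (x : K) :
    (singleAdele P x : Place k K → K) Q = if Q = P then x else 0 := by
  simp [singleAdele, Pi.single_apply]

/-- Inclusion of the integral elements at one place. -/
noncomputable def singleInt (P : Place k K) : intAt P →ₗ[k] intAdele k K :=
  (singleAdele P ∘ₗ (intAt P).subtype).codRestrict (intAdele k K) fun x => mem_intAdele.2 fun Q => by
    classical
    show (singleAdele P (x : K) : Place k K → K) Q ∈ intAt Q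
    rw [singleAdele_apply]
    split_ifs with h
    · subst h; exact x.2
    · exact zero_mem _

/-- Projection of integral adeles to one place. -/
noncomputable def projInt (P : Place k K) : intAdele k K →ₗ[k] intAt P :=
  ((LinearMap.proj P : (Place k K → K) →ₗ[k] K) ∘ₗ (adele k K).subtype ∘ₗ (intAdele k K).subtype).codRestrict
    (intAt P) fun a => mem_intAdele.1 a.2 P

theorem sum_singleInt_apply (S : Finset (Place k K)) (g : ∀ P, Module.End k (intAt P))
    (x : intAdele k K) (Q : Place k K) [DecidableEq (Place k K)] :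
    (((∑ P ∈ S, singleInt P ∘ₗ g P ∘ₗ projInt P : Module.End k (intAdele k K)) x : adele k K) : Place k K → K) Q =
      if Q ∈ S then (g Q (projInt Q x) : K) else 0 := by
  simp only [LinearMap.sum_apply, Submodule.coe_sum, Finset.sum_apply]
  rw [← Finset.sum_ite_eq S Q fun P => (g P (projInt P x) : K)]
  exact Finset.sum_congr rfl fun P _ => singleAdele_apply P Q _

variable {F : Place k K → Type w} [∀ P, Field (F P)] [∀ P, Algebra k (F P)] [∀ P, FiniteDimensional k (F P)]
  {φ : ∀ P, K →ₐ[k] (F P)⸨X⸩} (hφ : ∀ P, LocRes.IsExpansionAt P.1 (φ P))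

include hK in
theorem finite_poles (f : K) : {P : Place k K | ¬ P.1 f ≤ 1}.Finite :=
  Filter.mem_cofinite.1 (diag_le_adele hK ⟨f, rfl⟩)

include hφ in
theorem finRank_mkQ_mulAdele (f : K) :
    FinRank (V := ↥(intAdele k K)) ((intAdele k K).mkQ ∘ₗ mulAdele hK f ∘ₗ (intAdele k K).subtype) := by
  classical
  let S := (finite_poles hK f).toFinset
  let g : ∀ P : Place k K, K ⧸ intAt P →ₗ[k] ↥(adele k K) ⧸ intAdele k K := fun P =>
    (intAt P).liftQ ((intAdele k K).mkQ ∘ₗ singleAdele P) fun x hx =>
      (Submodule.Quotient.mk_eq_zero _).2 (singleInt P ⟨x, hx⟩).2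
  have e : (intAdele k K).mkQ ∘ₗ mulAdele hK f ∘ₗ (intAdele k K).subtype =
      ∑ P ∈ S, g P ∘ₗ ((intAt P).mkQ ∘ₗ mulLeft k f ∘ₗ (intAt P).subtype) ∘ₗ projInt P := by
    refine LinearMap.ext fun x => ?_
    rw [LinearMap.sum_apply]
    have hg : ∀ P, (g P ∘ₗ ((intAt P).mkQ ∘ₗ mulLeft k f ∘ₗ (intAt P).subtype) ∘ₗ projInt P) x =
        (intAdele k K).mkQ (singleAdele P (f * (projInt P x : K))) := fun P => rfl
    simp only [hg, ← map_sum]
    refine (Submodule.Quotient.eq _).2 (mem_intAdele.2 fun Q => ?_)
    show (mulAdele hK f (x : adele k K) : Place k K → K) Q -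
      ((∑ P ∈ S, singleAdele P (f * (projInt P x : K)) : adele k K) : Place k K → K) Q ∈ intAt Q
    rw [Submodule.coe_sum, Finset.sum_apply]
    simp only [singleAdele_apply]
    rw [Finset.sum_ite_eq S Q]
    split_ifs with hQ
    · rw [show (mulAdele hK f (x : adele k K) : Place k K → K) Q = f * (projInt Q x : K) from rfl, sub_self]
      exact zero_mem _
    · rw [sub_zero, mem_intAt, mulAdele_apply, map_mul]
      exact mul_le_one' (not_not.1 fun h => hQ ((finite_poles hK f).mem_toFinset.2 h)) (mem_intAdele.1 x.2 Q)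
  rw [e]
  exact finRank_sum _ _ fun P _ => (((local_residue (hφ P) f f).1).comp_right _).comp_left _

include hφ in
/-- The sum of the residues vanishes. -/
theorem residue_theorem (hK : IsFunctionField k K) (f g : K) :
    (Function.support fun P => LocRes.locRes (φ P) f g).Finite ∧ ∑ᶠ P, LocRes.locRes (φ P) f g = 0 := by
  classical
  let S := ((finite_poles hK f).union (finite_poles hK g)).toFinset
  have hS : ∀ P, P ∉ S → commAt P f g = 0 := fun P hP => by
    simp only [S, Set.Finite.mem_toFinset, Set.mem_union, Set.mem_setOf_eq, not_or, not_not] at hP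
    exact commAt_eq_zero hP.1 hP.2
  have hsupp : (Function.support fun P => LocRes.locRes (φ P) f g) ⊆ S := fun P hP => by
    by_contra hPS
    apply hP
    show LocRes.locRes (φ P) f g = 0
    rw [← (local_residue (hφ P) f g).2.2, hS P hPS, ftr_zero]
  refine ⟨S.finite_toSet.subset hsupp, ?_⟩
  rw [finsum_eq_sum_of_support_subset _ hsupp]
  let a := blk (intAdele k K) (retrAdele k K) (mulAdele hK f)
  let b := blk (intAdele k K) (retrAdele k K) (mulAdele hK g)
  have hab : comm (V := ↥(intAdele k K)) a b = (∑ P ∈ S, singleInt P ∘ₗ commAt P f g ∘ₗ projInt P : Module.End k ↥(intAdele k K)) := by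
    refine LinearMap.ext fun x => Subtype.ext (Subtype.ext (funext fun Q => ?_))
    rw [sum_singleInt_apply]
    have hb : ∀ (h : K) (y : intAdele k K), (((blk _ (retrAdele k K) (mulAdele hK h) y : intAdele k K) : adele k K) :
        Place k K → K) Q = (blk _ (retr Q) (mulLeft k h) (projInt Q y) : K) := fun h y => rfl
    have hL : (((comm (V := ↥(intAdele k K)) a b x : intAdele k K) : adele k K) : Place k K → K) Q = (commAt Q f g (projInt Q x) : K) := by
      have hp : ∀ (h : K) (y : intAdele k K), projInt Q (blk _ (retrAdele k K) (mulAdele hK h) y) =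
          blk _ (retr Q) (mulLeft k h) (projInt Q y) := fun h y => Subtype.ext rfl
      show (((blk _ (retrAdele k K) (mulAdele hK f) (blk _ (retrAdele k K) (mulAdele hK g) x) : intAdele k K) :
          adele k K) : Place k K → K) Q - (((blk _ (retrAdele k K) (mulAdele hK g)
          (blk _ (retrAdele k K) (mulAdele hK f) x) : intAdele k K) : adele k K) : Place k K → K) Q = _
      rw [hb, hb, hp, hp]
      rfl
    rw [hL]
    split_ifs with hQ
    · rfl
    · rw [hS Q hQ]; rfl
  have hfr : ∀ P ∈ S, FinRank (V := ↥(intAdele k K)) (W := ↥(intAdele k K)) (singleInt P ∘ₗ commAt P f g ∘ₗ projInt P) := fun P _ =>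
    (((local_residue (hφ P) f g).2.1).comp_right _).comp_left _
  have habfr : FinRank (comm (V := ↥(intAdele k K)) a b) := hab ▸ finRank_sum S _ hfr
  have habtr : ftr (comm (V := ↥(intAdele k K)) a b) = ∑ P ∈ S, LocRes.locRes (φ P) f g := by
    rw [hab, ftr_sum S _ hfr]
    refine Finset.sum_congr rfl fun P _ => ?_
    rw [ftr_comp_comm' (W := ↥(intAdele k K)) (singleInt P) _ ((local_residue (hφ P) f g).2.1.comp_right _)]
    have e : (commAt P f g ∘ₗ projInt P) ∘ₗ singleInt P = commAt P f g := by
      refine LinearMap.ext fun x => congrArg (commAt P f g) (Subtype.ext ?_)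
      show (singleAdele P (x : K) : Place k K → K) P = x
      rw [singleAdele_apply, if_pos rfl]
    rw [e, (local_residue (hφ P) f g).2.2]
  -- the global comparison
  rw [← habtr]
  let δ : K →ₗ[k] adele k K := (diag k K).codRestrict (adele k K) fun x => diag_le_adele hK ⟨x, rfl⟩
  haveI := finiteDimensional_L hK (0 : Divisor k K)
  haveI : FiniteDimensional k ↥((intAdele k K).comap δ) := by
    refine Submodule.finiteDimensional_of_le (S₂ := L (0 : Divisor k K)) fun x hx P => ?_
    rw [Finsupp.zero_apply, exp_zero]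
    exact mem_intAdele.1 hx P
  haveI : FiniteDimensional k (↥(adele k K) ⧸ (intAdele k K ⊔ LinearMap.range δ)) := by
    have e : intAdele k K ⊔ LinearMap.range δ = ADK (0 : Divisor k K) := by
      refine le_antisymm (sup_le (fun z hz => Submodule.mem_sup_left hz) ?_) fun z hz => ?_
      · rintro _ ⟨y, rfl⟩
        exact Submodule.mem_sup_right ⟨y, rfl⟩
      · obtain ⟨u, hu, _, ⟨y, rfl⟩, huy⟩ := Submodule.mem_sup.1 hz
        exact Submodule.mem_sup.2 ⟨⟨u, AD_le_adele 0 hu⟩, hu, δ y, ⟨y, rfl⟩, Subtype.ext huy⟩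
    rw [e]; exact (quotient_ADK hK 0).1
  exact ftr_comm_eq_zero_of_almost_compl (intAdele k K) δ (retrAdele k K) retrAdele_of_mem (mulAdele hK f)
    (mulAdele hK g) (mulLeft k f) (mulLeft k g) (LinearMap.ext fun x => Subtype.ext (funext fun _ => rfl))
    (LinearMap.ext fun x => Subtype.ext (funext fun _ => rfl))
    (LinearMap.ext fun z => Subtype.ext (funext fun P => show
      f * (g * (z : Place k K → K) P) - g * (f * (z : Place k K → K) P) = 0 by ring))
    (LinearMap.ext fun x => show f * (g * x) - g * (f * x) = 0 by ring)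
    (finRank_mkQ_mulAdele hK hφ f) (finRank_mkQ_mulAdele hK hφ g) habfr

end Groth.Agent.Residue24
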