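import Groth.Agent.Residue24.Theorem
import Groth.Agent.FF.Integral
import Mathlib.RingTheory.Trace.Basic

/-!
# Residues and the trace of a finite extension
-/

set_option autoImplicit false
set_option backward.isDefEq.respectTransparency.types false

universe u v w v₁ v₂

namespace Groth.Agent.Residue24

open LinearMap WithZero FunFld Groth.Agent.FF
open scoped LaurentSeries

section Abstract

variable {k : Type u} [Field k] {V : Type v₁} [AddCommGroup V] [Module k V] {A : Type v₂} [AddCommGroup A] [Module k A]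

/-- Transfer of the trace along an injective map with "dense" image. -/
theorem ftr_eq_of_dense (s : V →ₗ[k] A) (hs : Function.Injective s) (C : Module.End k V) (C' : Module.End k A)
    (hC : s ∘ₗ C = C' ∘ₗ s) (hC' : FinRank C') (Z : Submodule k A) (hZ : ∀ z ∈ Z, C' z = 0)
    (hd : ∀ a, ∃ x, a - s x ∈ Z) : FinRank C ∧ ftr C = ftr C' := by
  have hfr : FinRank C := by
    have h1 : FinRank (s ∘ₗ C) := hC ▸ hC'.comp_right s
    unfold FinRank at h1 ⊢
    rw [LinearMap.range_comp] at h1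
    haveI := h1
    exact Module.Finite.equiv (Submodule.equivMapOfInjective s hs _).symm
  refine ⟨hfr, ?_⟩
  obtain ⟨τ, hτ⟩ := (Z.mkQ ∘ₗ s).exists_rightInverse_of_surjective (LinearMap.range_eq_top.2 fun q => by
    obtain ⟨a, rfl⟩ := Z.mkQ_surjective q
    obtain ⟨x, hx⟩ := hd a
    exact ⟨x, ((Submodule.Quotient.eq Z).2 hx).symm⟩)
  have hmem : ∀ a, a - s (τ (Z.mkQ a)) ∈ Z := fun a =>
    (Submodule.Quotient.eq Z).1 (LinearMap.congr_fun hτ (Z.mkQ a)).symm
  have hC'fac : C' = (C' ∘ₗ s ∘ₗ τ) ∘ₗ Z.mkQ := LinearMap.ext fun a => by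
    show C' a = C' (s (τ (Z.mkQ a)))
    rw [← sub_eq_zero, ← map_sub]
    exact hZ _ (hmem a)
  have hCfac : C = (C ∘ₗ τ) ∘ₗ (Z.mkQ ∘ₗ s) := LinearMap.ext fun x => hs (by
    show (s ∘ₗ C) x = (s ∘ₗ C) (τ (Z.mkQ (s x)))
    rw [← sub_eq_zero, ← map_sub, hC, LinearMap.comp_apply, map_sub]
    exact hZ _ (hmem (s x)))
  conv_lhs => rw [hCfac]
  conv_rhs => rw [hC'fac]
  rw [ftr_comp_comm _ _ (hfr.comp_right τ), ftr_comp_comm _ _ (hC'.comp_right (s ∘ₗ τ))]
  refine congrArg ftr ?_
  rw [LinearMap.comp_assoc, ← LinearMap.comp_assoc τ C s, hC]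
  rfl

end Abstract

variable {k : Type u} {K K' : Type v} [Field k] [Field K] [Field K'] [Algebra k K] [Algebra k K']

/-- The elements integral at finitely many places. -/
def intSet (Qs : Finset (Place k K')) : Submodule k K' := ⨅ Q ∈ Qs, intAt Q

theorem mem_intSet {Qs : Finset (Place k K')} {z : K'} : z ∈ intSet Qs ↔ ∀ Q ∈ Qs, Q.1 z ≤ 1 := by
  simp [intSet, mem_intAt, Submodule.mem_iInf]

theorem finRank_of_forall {V : Type v₁} [AddCommGroup V] [Module k V] {ι : Type*} [Fintype ι]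
    {W : ι → Type v} [∀ i, AddCommGroup (W i)] [∀ i, Module k (W i)] (f : V →ₗ[k] (∀ i, W i))
    (h : ∀ i, FinRank (LinearMap.proj i ∘ₗ f)) : FinRank f := by
  classical
  have e : f = ∑ i, LinearMap.single k W i ∘ₗ (LinearMap.proj i ∘ₗ f) := by
    refine LinearMap.ext fun x => funext fun j => ?_
    simp [Pi.single_apply]
  rw [e]
  exact finRank_sum _ _ fun i _ => (h i).comp_left _

variable [Algebra K K'] [IsScalarTower k K K'] [FiniteDimensional K K']

/-- `Res_P (tr(y) dx) = ∑ Res_Q (y dx)`. -/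
theorem locRes_trace (hFF : IsFF' k K) {P : Place k K} {F : Type w} [Field F] [Algebra k F] [FiniteDimensional k F]
    {φ : K →ₐ[k] F⸨X⸩} (hφ : LocRes.IsExpansionAt P.1 φ) (Qs : Finset (Place k K'))
    (hQs : ∀ Q, Q ∈ Qs ↔ IsOver Q P) {F' : Place k K' → Type w} [∀ Q, Field (F' Q)] [∀ Q, Algebra k (F' Q)]
    [∀ Q, FiniteDimensional k (F' Q)] {ψ : ∀ Q, K' →ₐ[k] (F' Q)⸨X⸩}
    (hψ : ∀ Q ∈ Qs, LocRes.IsExpansionAt Q.1 (ψ Q)) (y : K') (x : K) :
    LocRes.locRes φ (Algebra.trace K K' y) x = ∑ Q ∈ Qs, LocRes.locRes (ψ Q) y (algebraMap K K' x) := by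
  classical
  obtain ⟨ι, _, ω, hω, hrepr, -⟩ := exists_adapted_basis (K' := K') hFF P
  set x' := algebraMap K K' x with hx'
  set O' := intSet Qs with hO'
  have hωO : ∀ (c : K) (l : ι), P.1 c ≤ 1 → c • ω l ∈ O' := fun c l hc => mem_intSet.2 fun Q hQ => by
    rw [Algebra.smul_def, map_mul]
    exact mul_le_one' (isOver_val_le ((hQs Q).1 hQ) hc) (hω l Q ((hQs Q).1 hQ))
  have hrO : ∀ (z : O') (l : ι), ω.repr (z : K') l ∈ intAt P := fun z l =>
    hrepr _ (fun Q hQ => mem_intSet.1 z.2 Q ((hQs Q).2 hQ)) l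
  -- coordinates on the semilocal ring
  let crd : ι → (K' →ₗ[k] K) := fun l => (ω.coord l).restrictScalars k
  let π : ι → (O' →ₗ[k] intAt P) := fun l => LinearMap.codRestrict (intAt P)
    (crd l ∘ₗ O'.subtype) fun z => hrO z l
  let inc : ι → (intAt P →ₗ[k] O') := fun l => LinearMap.codRestrict O'
    ((LinearMap.toSpanSingleton K K' (ω l)).restrictScalars k ∘ₗ (intAt P).subtype) fun c => hωO c l c.2
  have hπinc : ∀ l m (c : intAt P), π m (inc l c) = if m = l then c else 0 := fun l m c => by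
    apply Subtype.ext
    show ω.repr ((c : K) • ω l) m = _
    rw [map_smul, Finsupp.smul_apply, Module.Basis.repr_self, Finsupp.single_apply]
    split_ifs with h1 h2 <;> simp_all
  -- the coordinatewise retraction
  let r' : K' →ₗ[k] O' := ∑ l, inc l ∘ₗ retr P ∘ₗ crd l
  have hr'π : ∀ (z : K') (m : ι), π m (r' z) = retr P (ω.repr z m) := fun z m => by
    simp only [r', LinearMap.sum_apply, map_sum, LinearMap.comp_apply, hπinc]
    rw [Finset.sum_ite_eq Finset.univ m, if_pos (Finset.mem_univ _)]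
    rfl
  have hext : ∀ a b : O', (∀ m, π m a = π m b) → a = b := fun a b h => Subtype.ext (ω.repr.injective
    (Finsupp.ext fun m => congrArg Subtype.val (h m)))
  have hr' : ∀ z : O', r' z = z := fun z => hext _ _ fun m => by
    rw [hr'π]; exact retr_apply P ⟨_, hrO z m⟩
  let b : ι → ι → K := fun m l => ω.repr (y * ω l) m
  have hy : ∀ (z : O') (m : ι), π m (blk O' r' (mulLeft k y) z) =
      ∑ l, blk (intAt P) (retr P) (mulLeft k (b m l)) (π l z) := fun z m => by
    show π m (r' (y * z)) = _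
    rw [hr'π]
    have e : ω.repr (y * (z : K')) m = ∑ l, b m l * ω.repr (z : K') l := by
      conv_lhs => rw [← ω.sum_repr (z : K'), Finset.mul_sum]
      rw [map_sum, Finsupp.finsetSum_apply]
      refine Finset.sum_congr rfl fun l _ => ?_
      rw [mul_smul_comm, map_smul, Finsupp.smul_apply, smul_eq_mul, mul_comm]
    rw [e, map_sum]
    rfl
  have hx : ∀ (z : O') (m : ι), π m (blk O' r' (mulLeft k x') z) =
      blk (intAt P) (retr P) (mulLeft k x) (π m z) := fun z m => by
    show π m (r' (x' * z)) = _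
    rw [hr'π, hx', ← Algebra.smul_def, map_smul, Finsupp.smul_apply]
    rfl
  have hcomm : comm (blk O' r' (mulLeft k y)) (blk O' r' (mulLeft k x')) =
      ∑ m, ∑ l, inc m ∘ₗ commAt P (b m l) x ∘ₗ π l := by
    refine LinearMap.ext fun z => hext _ _ fun n => ?_
    rw [comm, LinearMap.sub_apply, map_sub, Module.End.mul_apply, Module.End.mul_apply, hy, hx, hy, map_sum,
      ← Finset.sum_sub_distrib]
    simp only [LinearMap.sum_apply, map_sum, LinearMap.comp_apply, hπinc, hx]
    rw [Finset.sum_comm]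
    refine Finset.sum_congr rfl fun l _ => ?_
    rw [Finset.sum_ite_eq Finset.univ n, if_pos (Finset.mem_univ _)]
    rfl
  have hfr1 : ∀ m l, FinRank (inc m ∘ₗ commAt P (b m l) x ∘ₗ π l) := fun m l =>
    ((local_residue hφ (b m l) x).2.1.comp_right _).comp_left _
  have htr1 : ftr (comm (blk O' r' (mulLeft k y)) (blk O' r' (mulLeft k x'))) =
      LocRes.locRes φ (Algebra.trace K K' y) x := by
    rw [hcomm, ftr_sum _ _ fun m _ => finRank_sum _ _ fun l _ => hfr1 m l]
    have e : ∀ m, ftr (∑ l, inc m ∘ₗ commAt P (b m l) x ∘ₗ π l) = LocRes.locRes φ (b m m) x := fun m => by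
      rw [ftr_sum _ _ fun l _ => hfr1 m l, Finset.sum_eq_single m]
      · rw [ftr_comp_comm' (inc m) _ ((local_residue hφ (b m m) x).2.1.comp_right _),
          ← (local_residue hφ (b m m) x).2.2]
        refine congrArg ftr (LinearMap.ext fun c => ?_)
        simp only [LinearMap.comp_apply, hπinc, if_true]
      · intro l _ hl
        rw [ftr_comp_comm' (inc m) _ ((local_residue hφ (b m l) x).2.1.comp_right _)]
        convert ftr_zero (k := k) (V := intAt P) using 2
        refine LinearMap.ext fun c => ?_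
        simp only [LinearMap.comp_apply, hπinc, if_neg hl, map_zero, LinearMap.zero_apply]
      · simp
    simp only [e]
    rw [Algebra.trace_eq_matrix_trace ω, Matrix.trace]
    simp only [Matrix.diag_apply, Algebra.leftMulMatrix_eq_repr_mul]
    rw [LocRes.locRes, LocRes.resExp, map_sum, Finset.sum_mul, map_sum, map_sum]
    exact Finset.sum_congr rfl fun m _ => rfl
  -- the product of the local rings
  let V := Qs → K'
  let A : Submodule k V := Submodule.pi Set.univ fun Q : Qs => intAt (Q : Place k K')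
  let D : K' →ₗ[k] V := LinearMap.pi fun _ => LinearMap.id
  have hDA : ∀ z, z ∈ O' ↔ D z ∈ A := fun z => by
    rw [hO', mem_intSet]
    exact ⟨fun h Q _ => h Q Q.2, fun h Q hQ => h ⟨Q, hQ⟩ (Set.mem_univ _)⟩
  let q : K' →ₗ[k] V ⧸ A := A.mkQ ∘ₗ D
  have hqsurj : Function.Surjective q := fun v => by
    obtain ⟨v, rfl⟩ := A.mkQ_surjective v
    obtain ⟨z, hz⟩ := exists_approx Qs (fun Q => if h : Q ∈ Qs then v ⟨Q, h⟩ else 0) (fun _ => 0)
    refine ⟨z, (Submodule.Quotient.eq A).2 fun Q _ => ?_⟩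
    have := hz Q Q.2
    rw [dif_pos Q.2, exp_zero] at this
    exact this
  obtain ⟨σ, hσ⟩ := q.exists_rightInverse_of_surjective (LinearMap.range_eq_top.2 hqsurj)
  have hσ' : ∀ v, A.mkQ (D (σ v)) = v := fun v => LinearMap.congr_fun hσ v
  let pL : V →ₗ[k] A := LinearMap.codRestrict A (LinearMap.id - D ∘ₗ σ ∘ₗ A.mkQ) fun v =>
    (Submodule.Quotient.eq A).1 (hσ' (A.mkQ v)).symm
  have hpL : ∀ a : A, pL a = a := fun a => Subtype.ext (by
    show (a : V) - D (σ (A.mkQ (a : V))) = a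
    rw [Submodule.mkQ_apply, (Submodule.Quotient.mk_eq_zero A).2 a.2, map_zero, map_zero, sub_zero])
  let pK : K' →ₗ[k] O' := LinearMap.codRestrict O' (LinearMap.id - σ ∘ₗ q) fun z => (hDA _).2 (by
    show D (z - σ (q z)) ∈ A
    rw [map_sub]
    exact (Submodule.Quotient.eq A).1 (hσ' (q z)).symm)
  have hpK : ∀ z : O', pK z = z := fun z => Subtype.ext (by
    show (z : K') - σ (q z) = z
    rw [show q z = 0 from (Submodule.Quotient.mk_eq_zero A).2 ((hDA _).1 z.2), map_zero, sub_zero])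
  let mulV : K' → Module.End k V := fun h => LinearMap.pi fun Q => mulLeft k h ∘ₗ LinearMap.proj Q
  let s : O' →ₗ[k] A := (D ∘ₗ O'.subtype).codRestrict A fun z => (hDA _).1 z.2
  have hs : ∀ h z, s (blk O' pK (mulLeft k h) z) = blk A pL (mulV h) (s z) := fun h z => Subtype.ext rfl
  -- the product retraction
  let pr : V →ₗ[k] A := LinearMap.codRestrict A
    (LinearMap.pi fun Q : Qs => (intAt (Q : Place k K')).subtype ∘ₗ retr (Q : Place k K') ∘ₗ LinearMap.proj Q)
    fun v Q _ => (retr (Q : Place k K') (v Q)).2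
  have hpr : ∀ a : A, pr a = a := fun a => Subtype.ext (funext fun Q =>
    congrArg Subtype.val (retr_apply (Q : Place k K') ⟨_, a.2 Q (Set.mem_univ _)⟩))
  let pA : ∀ Q : Qs, A →ₗ[k] intAt (Q : Place k K') := fun Q =>
    ((LinearMap.proj Q : V →ₗ[k] K') ∘ₗ A.subtype).codRestrict _ fun a => a.2 Q (Set.mem_univ _)
  let iA : ∀ Q : Qs, intAt (Q : Place k K') →ₗ[k] A := fun Q =>
    (LinearMap.single k (fun _ : Qs => K') Q ∘ₗ (intAt (Q : Place k K')).subtype).codRestrict A fun c R _ => by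
      show (Pi.single Q (c : K') : V) R ∈ intAt (R : Place k K')
      rcases eq_or_ne R Q with rfl | hne
      · rw [Pi.single_eq_same]; exact c.2
      · rw [Pi.single_eq_of_ne hne]; exact zero_mem _
  have hcommA : comm (blk A pr (mulV y)) (blk A pr (mulV x')) =
      ∑ Q : Qs, iA Q ∘ₗ commAt (Q : Place k K') y x' ∘ₗ pA Q := by
    refine LinearMap.ext fun a => Subtype.ext (funext fun R => ?_)
    rw [LinearMap.sum_apply, Submodule.coe_sum]
    refine Eq.trans ?_ (Finset.sum_apply (a := R) (s := Finset.univ) (g := fun Q : Qs => ((iA Q ∘ₗ commAt (Q : Place k K') y x' ∘ₗ pA Q) a : V))).symm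
    rw [Finset.sum_eq_single R]
    · show _ = (Pi.single R ((commAt (R : Place k K') y x' (pA R a)) : K') : V) R
      rw [Pi.single_eq_same]
      rfl
    · intro Q _ hQ
      show (Pi.single Q ((commAt (Q : Place k K') y x' (pA Q a)) : K') : V) R = 0
      exact Pi.single_eq_of_ne (Ne.symm hQ) _
    · simp
  have hfrA : ∀ Q : Qs, FinRank (iA Q ∘ₗ commAt (Q : Place k K') y x' ∘ₗ pA Q) := fun Q =>
    ((local_residue (hψ _ Q.2) y x').2.1.comp_right _).comp_left _
  have hAfr : FinRank (comm (blk A pr (mulV y)) (blk A pr (mulV x'))) := by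
    rw [hcommA]; exact finRank_sum _ _ fun Q _ => hfrA Q
  have hAtr : ftr (comm (blk A pr (mulV y)) (blk A pr (mulV x'))) = ∑ Q ∈ Qs, LocRes.locRes (ψ Q) y x' := by
    rw [hcommA, ftr_sum _ _ fun Q _ => hfrA Q, ← Finset.sum_coe_sort Qs]
    refine Finset.sum_congr rfl fun Q _ => ?_
    rw [ftr_comp_comm' (iA Q) _ ((local_residue (hψ _ Q.2) y x').2.1.comp_right _),
      ← (local_residue (hψ _ Q.2) y x').2.2]
    exact congrArg ftr (LinearMap.ext fun c => congrArg (commAt (Q : Place k K') y x')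
      (Subtype.ext (Pi.single_eq_same Q _)))
  have hmulA : ∀ h : K', FinRank (A.mkQ ∘ₗ mulV h ∘ₗ A.subtype) := fun h => by
    let g : ∀ Q : Qs, K' ⧸ intAt (Q : Place k K') →ₗ[k] V ⧸ A := fun Q =>
      (intAt (Q : Place k K')).liftQ (A.mkQ ∘ₗ LinearMap.single k (fun _ : Qs => K') Q) fun c hc =>
        (Submodule.Quotient.mk_eq_zero A).2 (iA Q ⟨c, hc⟩).2
    have e : A.mkQ ∘ₗ mulV h ∘ₗ A.subtype =
        ∑ Q : Qs, g Q ∘ₗ ((intAt (Q : Place k K')).mkQ ∘ₗ mulLeft k h ∘ₗ (intAt (Q : Place k K')).subtype) ∘ₗ pA Q := by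
      refine LinearMap.ext fun a => ?_
      rw [LinearMap.sum_apply]
      show A.mkQ (mulV h a) = ∑ Q : Qs, A.mkQ (Pi.single Q (h * (a : V) Q))
      rw [← map_sum, Finset.univ_sum_single]
      rfl
    rw [e]
    exact finRank_sum _ _ fun Q _ => ((local_residue (hψ _ Q.2) h h).1.comp_right _).comp_left _
  obtain ⟨hLfr, hLtr⟩ := ftr_comm_blk_congr A hpr hpL (hmulA y) (hmulA x') hAfr
  -- deep elements are killed
  let N : K' → Qs → ℤ := fun h Q => max (log (((Q : Place k K')).1 h)) 0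
  let Z : Submodule k A :=
    { carrier := {a | ∀ Q : Qs, ((Q : Place k K')).1 ((a : V) Q) ≤ exp (-(N y Q + N x' Q))}
      add_mem' := fun {a c} ha hc Q => ((Q : Place k K').1.map_add _ _).trans (max_le (ha Q) (hc Q))
      zero_mem' := fun Q => by
        show ((Q : Place k K')).1 ((0 : V) Q) ≤ _
        rw [Pi.zero_apply, map_zero]; exact zero_le
      smul_mem' := fun r a ha Q => by
        show ((Q : Place k K')).1 (r • (a : V) Q) ≤ _
        rw [Algebra.smul_def, map_mul]
        exact (mul_le_mul' ((Q : Place k K').2.1 r) (ha Q)).trans_eq (one_mul _) }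
  have hN : ∀ (h : K') (Q : Qs), ((Q : Place k K')).1 h ≤ exp (N h Q) := fun h Q => by
    rcases eq_or_ne (((Q : Place k K')).1 h) 0 with h0 | h0
    · rw [h0]; exact zero_le
    · conv_lhs => rw [← exp_log h0]
      exact exp_le_exp.2 (le_max_left _ _)
  have hZ : ∀ a ∈ Z, comm (blk A pL (mulV y)) (blk A pL (mulV x')) a = 0 := fun a ha => by
    have hm : ∀ h h' : K', (∀ Q : Qs, N h Q + N h' Q ≤ N y Q + N x' Q) → mulV h (a : V) ∈ A := fun h h' hle Q _ => by
      show ((Q : Place k K')).1 (h * (a : V) Q) ≤ 1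
      rw [map_mul]
      refine (mul_le_mul' (hN h Q) (ha Q)).trans (le_of_le_of_eq ?_ exp_zero)
      rw [← exp_add, exp_le_exp]
      have := le_max_right (log (((Q : Place k K')).1 h')) 0
      have := hle Q
      show N h Q + -(N y Q + N x' Q) ≤ 0
      change (0 : ℤ) ≤ N h' Q at *
      omega
    have hy' := hm y x' fun Q => le_rfl
    have hx'' := hm x' y fun Q => (add_comm _ _).le
    apply Subtype.ext
    show (pL (mulV y (pL (mulV x' (a : V)) : V)) : V) - (pL (mulV x' (pL (mulV y (a : V)) : V)) : V) = 0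
    rw [show pL (mulV x' (a : V)) = ⟨_, hx''⟩ from hpL ⟨_, hx''⟩, show pL (mulV y (a : V)) = ⟨_, hy'⟩ from hpL ⟨_, hy'⟩]
    show (pL (mulV y (mulV x' (a : V))) : V) - (pL (mulV x' (mulV y (a : V))) : V) = 0
    rw [show mulV y (mulV x' (a : V)) = mulV x' (mulV y (a : V)) from funext fun Q => mul_left_comm y x' _, sub_self]
  have hd : ∀ a : A, ∃ z, a - s z ∈ Z := fun a => by
    obtain ⟨z, hz⟩ := exists_approx Qs (fun Q => if h : Q ∈ Qs then (a : V) ⟨Q, h⟩ else 0)
      (fun Q => if h : Q ∈ Qs then -(N y ⟨Q, h⟩ + N x' ⟨Q, h⟩) else 0)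
    have hz' : ∀ Q : Qs, ((Q : Place k K')).1 (z - (a : V) Q) ≤ exp (-(N y Q + N x' Q)) := fun Q => by
      simpa [Q.2] using hz Q Q.2
    have hzO : z ∈ O' := (hDA z).2 fun Q _ => by
      show ((Q : Place k K')).1 z ≤ 1
      rw [← sub_add_cancel z ((a : V) Q)]
      refine ((Q : Place k K').1.map_add _ _).trans (max_le ((hz' Q).trans (le_of_le_of_eq ?_ exp_zero)) (a.2 Q (Set.mem_univ _)))
      rw [exp_le_exp]
      have := le_max_right (log (((Q : Place k K')).1 y)) 0
      have := le_max_right (log (((Q : Place k K')).1 x')) 0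
      show -(max (log (((Q : Place k K')).1 y)) 0 + max (log (((Q : Place k K')).1 x')) 0) ≤ 0
      omega
    refine ⟨⟨z, hzO⟩, fun Q => ?_⟩
    show ((Q : Place k K')).1 ((a : V) Q - z) ≤ _
    rw [Valuation.map_sub_swap]
    exact hz' Q
  obtain ⟨Q₀, hQ₀⟩ := exists_over (K' := K') hFF P
  have hsinj : Function.Injective s := fun z z' h => Subtype.ext
    (congrFun (congrArg Subtype.val h) ⟨Q₀, (hQs Q₀).2 hQ₀⟩)
  have hCs : s ∘ₗ comm (blk O' pK (mulLeft k y)) (blk O' pK (mulLeft k x')) =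
      comm (blk A pL (mulV y)) (blk A pL (mulV x')) ∘ₗ s := LinearMap.ext fun z => by
    simp only [comm, LinearMap.comp_apply, LinearMap.sub_apply, Module.End.mul_apply, map_sub, hs]
  obtain ⟨hKfr, hKtr⟩ := ftr_eq_of_dense s hsinj _ _ hCs hLfr Z hZ hd
  have hmulO : ∀ h : K', FinRank (O'.mkQ ∘ₗ mulLeft k h ∘ₗ O'.subtype) := fun h => by
    let e : K' ⧸ O' →ₗ[k] V ⧸ A := O'.liftQ q fun z hz => (Submodule.Quotient.mk_eq_zero A).2 ((hDA z).1 hz)
    have he : Function.Injective e := (injective_iff_map_eq_zero e).2 fun z hz => by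
      obtain ⟨z, rfl⟩ := O'.mkQ_surjective z
      exact (Submodule.Quotient.mk_eq_zero O').2 ((hDA z).2 ((Submodule.Quotient.mk_eq_zero A).1 hz))
    have h1 : FinRank (e ∘ₗ (O'.mkQ ∘ₗ mulLeft k h ∘ₗ O'.subtype)) := by
      rw [show e ∘ₗ (O'.mkQ ∘ₗ mulLeft k h ∘ₗ O'.subtype) = (A.mkQ ∘ₗ mulV h ∘ₗ A.subtype) ∘ₗ s from
        LinearMap.ext fun z => rfl]
      exact (hmulA h).comp_right s
    unfold FinRank at h1 ⊢
    rw [LinearMap.range_comp] at h1
    haveI := h1
    exact Module.Finite.equiv (Submodule.equivMapOfInjective e he _).symm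
  obtain ⟨-, h2⟩ := ftr_comm_blk_congr O' hpK hr' (hmulO y) (hmulO x') hKfr
  rw [← htr1, h2, hKtr, hLtr, hAtr]

end Groth.Agent.Residue24
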