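import Groth.Agent.Residue24.Theorem
import Groth.Agent.FF.ExpDense
import Groth.Agent.FF.Degree

/-!
# The Weil differential of a differential form, through residues
-/

set_option autoImplicit false
set_option backward.isDefEq.respectTransparency.types false

universe u v w

namespace Groth.Agent.Residue24

open WithZero FunFld Groth.Agent.FF
open scoped LaurentSeries

variable {k : Type u} {K : Type v} [Field k] [Field K] [Algebra k K]

section Local

variable {F : Type w} [Field F] [Algebra k F] (φ : K →ₐ[k] F⸨X⸩)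

theorem locRes_add (x y v : K) :
    LocRes.locRes φ (x + y) v = LocRes.locRes φ x v + LocRes.locRes φ y v := by
  simp only [LocRes.locRes, LocRes.resExp, map_add, add_mul]

theorem locRes_zero (v : K) : LocRes.locRes φ 0 v = 0 := by
  simp [LocRes.locRes, LocRes.resExp]

theorem locRes_smul (c : k) (x v : K) : LocRes.locRes φ (c • x) v = c • LocRes.locRes φ x v := by
  rw [LocRes.locRes, LocRes.locRes, ← map_smul]
  congr 1
  rw [LocRes.resExp, LocRes.resExp, Algebra.smul_def c x, map_mul φ, LocRes.map_algebraMap, mul_assoc,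
    LocRes.res_apply, LocRes.res_apply, HahnSeries.C_mul_eq_smul, HahnSeries.coeff_smul,
    smul_eq_mul, Algebra.smul_def]

theorem vDiff_mul (x y v : K) :
    LocRes.vDiff φ (x * y) v = Valued.v (φ x) * LocRes.vDiff φ y v := by
  simp only [LocRes.vDiff, map_mul, mul_assoc]

theorem locRes_eq_zero_of_vDiff_le {u v : K} (h : LocRes.vDiff φ u v ≤ 1) :
    LocRes.locRes φ u v = 0 := by
  have h' := (LaurentSeries.valuation_le_iff_coeff_lt_eq_zero F).mp
    (show Valued.v (φ u * LocRes.D F (φ v)) ≤ exp (-(0 : ℤ)) by rw [neg_zero, exp_zero]; exact h) (-1) (by omega)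
  rw [LocRes.locRes, LocRes.resExp, LocRes.res_apply, h', map_zero]

variable {φ} {P : Place k K}

theorem vDiff_ne_zero (hK : IsFunctionField k K) (hg : IsGeometric k K) (hφ : LocRes.IsExpansionAt P.1 φ)
    {u v : K} (hu : u ≠ 0) (hv : KaehlerDifferential.D k K v ≠ 0) : LocRes.vDiff φ u v ≠ 0 := by
  obtain ⟨t, ht, hDt⟩ := exists_val_exp_neg_one hφ
  have hT0 : LocRes.D F (φ t) ≠ 0 := fun h => by rw [h, map_zero] at hDt; exact zero_ne_one hDt
  obtain ⟨c, hc⟩ := exists_smul_D hK hg (D_ne_zero_of_exp φ hT0) v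
  have hc0 : c ≠ 0 := fun h => hv (by rw [hc, h, zero_smul])
  rw [LocRes.vDiff, map_ne_zero, D_rel φ hc]
  exact mul_ne_zero ((map_ne_zero φ.toRingHom).mpr hu) (mul_ne_zero ((map_ne_zero φ.toRingHom).mpr hc0) hT0)

/-- If `u dv` has order less than `-n`, it pairs nontrivially with an element of order at least `n`. -/
theorem exists_locRes_mul_ne_zero (hK : IsFunctionField k K) (hg : IsGeometric k K) [FiniteDimensional k F]
    (hφ : LocRes.IsExpansionAt P.1 φ) {u v : K} {n : ℤ} (h : 1 < exp n * LocRes.vDiff φ u v) :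
    ∃ y : K, P.1 y ≤ exp n ∧ LocRes.locRes φ (y * u) v ≠ 0 := by
  have := isSeparable_coeffField hK hg hφ
  obtain ⟨a, ha⟩ : ∃ a, Algebra.trace k F a ≠ 0 := by
    by_contra hc; push Not at hc
    exact Algebra.trace_ne_zero k F (LinearMap.ext hc)
  have hT : φ u * LocRes.D F (φ v) ≠ 0 := fun h0 => by
    rw [LocRes.vDiff, h0, map_zero, mul_zero] at h; exact not_lt_bot h
  set T := φ u * LocRes.D F (φ v) with hTdef
  have hvT : Valued.v T = exp (log (Valued.v T)) := (exp_log ((map_ne_zero _).mpr hT)).symm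
  set m := log (Valued.v T) with hm
  have hmn : 1 ≤ n + m := by
    rw [LocRes.vDiff, ← hTdef, hvT, ← exp_add, ← exp_zero, exp_lt_exp] at h; omega
  set f := HahnSeries.single (-1 : ℤ) a / T with hf
  have hvf : Valued.v f ≤ exp n := by
    rw [hf, map_div₀, hvT, div_le_iff₀ exp_pos, ← exp_add]
    refine le_trans ?_ (exp_le_exp.mpr hmn)
    refine le_trans ?_ (le_of_eq (show exp (-(-1 : ℤ)) = exp (1 : ℤ) by rw [neg_neg]))
    refine (LaurentSeries.valuation_le_iff_coeff_lt_eq_zero F).mpr fun j hj => ?_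
    rw [HahnSeries.coeff_single, if_neg hj.ne]
  obtain ⟨y, hy⟩ := exists_near_expansion hφ f (max m (-n))
  refine ⟨y, ?_, ?_⟩
  · rw [← hφ.1, show φ y = (φ y - f) + f by ring]
    exact (Valued.v.map_add _ _).trans (max_le (hy.trans (exp_le_exp.mpr (by omega))) hvf)
  · rw [LocRes.locRes, LocRes.resExp, LocRes.res_apply, map_mul, mul_assoc, ← hTdef]
    have h1 : Valued.v (φ y * T - HahnSeries.single (-1 : ℤ) a) ≤ exp (-(0 : ℤ)) := by
      rw [show φ y * T - HahnSeries.single (-1 : ℤ) a = (φ y - f) * T by rw [hf]; field_simp, map_mul]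
      refine (mul_le_mul_left hy _).trans ?_
      rw [hvT, ← exp_add, exp_le_exp]; omega
    have h2 := (LaurentSeries.valuation_le_iff_coeff_lt_eq_zero F).mp h1 (-1) (by omega)
    rw [HahnSeries.coeff_sub, HahnSeries.coeff_single_same, sub_eq_zero] at h2
    rw [h2]; exact ha

end Local

variable {F : Place k K → Type w} [∀ P, Field (F P)] [∀ P, Algebra k (F P)]
  {φ : ∀ P, K →ₐ[k] (F P)⸨X⸩} (hφ : ∀ P, LocRes.IsExpansionAt P.1 (φ P))

include hφ in
theorem vDiff_mul' (P : Place k K) (x y v : K) :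
    LocRes.vDiff (φ P) (x * y) v = P.1 x * LocRes.vDiff (φ P) y v := by
  rw [vDiff_mul, (hφ P).1]

include hφ in
theorem vDiff_le_one_of {P : Place k K} {u v : K} (hu : P.1 u ≤ 1) (hv : P.1 v ≤ 1) :
    LocRes.vDiff (φ P) u v ≤ 1 := by
  rw [LocRes.vDiff, map_mul, (hφ P).1]
  exact mul_le_one' hu (valued_D_le_one (by rw [(hφ P).1]; exact hv))

variable [∀ P, FiniteDimensional k (F P)] (hK : IsFunctionField k K)

include hφ hK in
theorem finite_pairing (a : adele k K) (u v : K) :
    (Function.support fun P => LocRes.locRes (φ P) ((a : Place k K → K) P * u) v).Finite := by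
  refine (((Filter.mem_cofinite.mp a.2).union (finite_poles hK u)).union (finite_poles hK v)).subset fun P hP => ?_
  by_contra hc
  rw [Set.mem_union, Set.mem_union, not_or, not_or] at hc
  refine hP (locRes_eq_zero_of_vDiff_le _ ?_)
  rw [vDiff_mul' hφ]
  exact mul_le_one' (not_not.mp hc.1.1) (vDiff_le_one_of hφ (not_not.mp hc.1.2) (not_not.mp hc.2))

/-- The functional `a ↦ ∑ Res (a u dv)` on adeles. -/
noncomputable def resForm (v : K) : K →ₗ[k] Module.Dual k (adele k K) :=
  LinearMap.mk₂ k (fun u (a : adele k K) => ∑ᶠ P, LocRes.locRes (φ P) ((a : Place k K → K) P * u) v)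
    (fun u u' a => by
      rw [← finsum_add_distrib (finite_pairing hφ hK a u v) (finite_pairing hφ hK a u' v)]
      exact finsum_congr fun P => by rw [mul_add, locRes_add])
    (fun c u a => by
      rw [smul_finsum]
      exact finsum_congr fun P => by rw [mul_smul_comm, locRes_smul])
    (fun u a a' => by
      rw [← finsum_add_distrib (finite_pairing hφ hK a u v) (finite_pairing hφ hK a' u v)]
      exact finsum_congr fun P => by rw [Submodule.coe_add, Pi.add_apply, add_mul, locRes_add])
    (fun c u a => by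
      rw [smul_finsum]
      exact finsum_congr fun P => by rw [Submodule.coe_smul, Pi.smul_apply, smul_mul_assoc, locRes_smul])

theorem resForm_apply (u v : K) (a : adele k K) :
    resForm hφ hK v u a = ∑ᶠ P, LocRes.locRes (φ P) ((a : Place k K → K) P * u) v := rfl

theorem resForm_mul (x u v : K) :
    resForm hφ hK v (x * u) = mulW x (smul_mem_adele hK x) (resForm hφ hK v u) := by
  refine LinearMap.ext fun a => ?_
  rw [mulW_apply, resForm_apply, resForm_apply]
  refine finsum_congr fun P => ?_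
  congr 1
  show (a : Place k K → K) P * (x * u) = x • (a : Place k K → K) P * u
  rw [smul_eq_mul]; ring

theorem resForm_mem_WD {u v : K} {E : Divisor k K} (h : ∀ P, exp (E P) * LocRes.vDiff (φ P) u v ≤ 1) :
    resForm hφ hK v u ∈ WD E := by
  rw [mem_WD]
  intro a ha
  obtain ⟨b, hb, _, ⟨z, rfl⟩, hbz⟩ := Submodule.mem_sup.mp ha
  have e : a = (⟨b, AD_le_adele E hb⟩ : adele k K) + ⟨diag k K z, diag_le_adele hK ⟨z, rfl⟩⟩ :=
    Subtype.ext hbz.symm
  rw [e, map_add, resForm_apply, resForm_apply]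
  have h1 : ∀ P, LocRes.locRes (φ P) (b P * u) v = 0 := fun P => locRes_eq_zero_of_vDiff_le _ (by
    rw [vDiff_mul' hφ]
    exact (mul_le_mul_left (hb P) _).trans (h P))
  rw [finsum_eq_zero_of_forall_eq_zero h1, zero_add]
  exact (residue_theorem hφ hK (z * u) v).2

open Classical in
theorem resForm_single (u v : K) (P : Place k K) (y : K) :
    resForm hφ hK v u (singleAdele P y) = LocRes.locRes (φ P) (y * u) v := by
  rw [resForm_apply, finsum_eq_single _ P fun Q hQ => by rw [singleAdele_apply, if_neg hQ, zero_mul, locRes_zero]]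
  rw [singleAdele_apply, if_pos rfl]

theorem resForm_mem_WD_iff (hg : IsGeometric k K) {u v : K} {E : Divisor k K} :
    resForm hφ hK v u ∈ WD E ↔ ∀ P, exp (E P) * LocRes.vDiff (φ P) u v ≤ 1 := by
  classical
  refine ⟨fun h P => ?_, resForm_mem_WD hφ hK⟩
  by_contra hP
  obtain ⟨y, hy, hne⟩ := exists_locRes_mul_ne_zero hK hg (hφ P) (not_le.mp hP)
  refine hne ?_
  rw [← resForm_single hφ hK u v P y]
  refine mem_WD.mp h _ (Submodule.mem_sup_left fun Q => ?_)
  rw [singleAdele_apply]
  split_ifs with hQ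
  · subst hQ; exact hy
  · rw [map_zero]; exact zero_le

theorem resForm_isWeil (u v : K) : IsWeil (resForm hφ hK v u) := by
  classical
  set S := ((finite_poles hK u).union (finite_poles hK v)).toFinset
  refine ⟨∑ P ∈ S, Finsupp.single P (-log (LocRes.vDiff (φ P) u v)), resForm_mem_WD hφ hK fun P => ?_⟩
  rw [Finsupp.finsetSum_apply]
  simp only [Finsupp.single_apply, Finset.sum_ite_eq']
  split_ifs with hP
  · rcases eq_or_ne (LocRes.vDiff (φ P) u v) 0 with h0 | h0
    · rw [h0, mul_zero]; exact zero_le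
    · conv_lhs => arg 2; rw [← exp_log h0]
      rw [← exp_add, neg_add_cancel, exp_zero]
  · simp only [S, Set.Finite.mem_toFinset, Set.mem_union, Set.mem_setOf_eq, not_or, not_not] at hP
    rw [exp_zero, one_mul]
    exact vDiff_le_one_of hφ hP.1 hP.2

theorem resForm_ne_zero (hg : IsGeometric k K) {u v : K} (hu : u ≠ 0) (hv : KaehlerDifferential.D k K v ≠ 0) :
    resForm hφ hK v u ≠ 0 := by
  intro h0
  obtain ⟨P⟩ := nonempty_place hK
  obtain ⟨y, hy⟩ := exists_locRes_ne_zero hK hg (hφ P) hv
  refine hy ?_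
  have := resForm_single hφ hK u v P (y / u)
  rw [h0, LinearMap.zero_apply, div_mul_cancel₀ y hu] at this
  exact this.symm

theorem resForm_injective (hg : IsGeometric k K) {v : K} (hv : KaehlerDifferential.D k K v ≠ 0) :
    Function.Injective (resForm hφ hK v) := by
  refine (injective_iff_map_eq_zero _).mpr fun u hu => ?_
  by_contra h
  exact resForm_ne_zero hφ hK hg h hv hu

theorem resForm_surjective (hg : IsGeometric k K) {v : K} (hv : KaehlerDifferential.D k K v ≠ 0)
    {ω : Module.Dual k (adele k K)} (hω : IsWeil ω) : ∃ u, resForm hφ hK v u = ω := by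
  obtain ⟨x, hx⟩ := exists_mulW_eq' hK (resForm_isWeil hφ hK 1 v)
    (resForm_ne_zero hφ hK hg one_ne_zero hv) hω
  exact ⟨x * 1, by rw [resForm_mul, hx]⟩

/-- The divisor of `u dv`. -/
theorem exists_divisor (hg : IsGeometric k K) {u v : K} (hu : u ≠ 0) (hv : KaehlerDifferential.D k K v ≠ 0) :
    ∃ C : Divisor k K, (∀ P, C P = LocRes.ordDiff (φ P) u v) ∧ IsDivOf (resForm hφ hK v u) C := by
  classical
  obtain ⟨C, hC⟩ := exists_isDivOf' hK (resForm_isWeil hφ hK u v) (resForm_ne_zero hφ hK hg hu hv)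
  have hiff : ∀ (E : Divisor k K), E ≤ C ↔ ∀ P, E P ≤ LocRes.ordDiff (φ P) u v := fun E => by
    rw [← hC E, resForm_mem_WD_iff hφ hK hg]
    refine forall_congr' fun P => ?_
    conv_lhs => arg 1; arg 2; rw [← exp_log (vDiff_ne_zero hK hg (hφ P) hu hv)]
    rw [← exp_add, ← exp_zero, exp_le_exp, LocRes.ordDiff]
    omega
  refine ⟨C, fun P => le_antisymm ((hiff C).mp le_rfl P) ?_, hC⟩
  by_contra hlt
  have h2 : C + Finsupp.single P 1 ≤ C := (hiff _).mpr fun Q => by
    rw [Finsupp.add_apply, Finsupp.single_apply]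
    split_ifs with hQ
    · subst hQ; omega
    · rw [add_zero]; exact (hiff C).mp le_rfl Q
  have := h2 P
  rw [Finsupp.add_apply, Finsupp.single_eq_same] at this
  omega

include hφ hK in
theorem finrank_span_vDiff (hg : IsGeometric k K) {v : K} (hv : KaehlerDifferential.D k K v ≠ 0) (D : Divisor k K) :
    Module.finrank k (Submodule.span k {y : K | ∀ P, LocRes.vDiff (φ P) y v ≤ exp (-(D P))}) =
      Module.finrank k (WD D) := by
  have hset : {y : K | ∀ P, LocRes.vDiff (φ P) y v ≤ exp (-(D P))} = ((WD D).comap (resForm hφ hK v) : Set K) := by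
    ext y
    rw [Set.mem_setOf_eq, SetLike.mem_coe, Submodule.mem_comap, resForm_mem_WD_iff hφ hK hg]
    refine forall_congr' fun P => ?_
    rw [exp_neg, ← one_div, le_div_iff₀ exp_pos, mul_comm]
  rw [hset, Submodule.span_eq, ((WD D).comap (resForm hφ hK v)).equivMapOfInjective _
    (resForm_injective hφ hK hg hv) |>.finrank_eq, Submodule.map_comap_eq_of_le]
  exact fun ω hω => resForm_surjective hφ hK hg hv ⟨D, hω⟩

end Groth.Agent.Residue24
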